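import Cfsg.Agent.Lib.TwoNilCent.Basic
import Cfsg.Agent.Lib.Transfer.WreathedOrSemidihedral

/-!
# No semidihedral or wreathed Sylow 2-subgroups

`not_quasiDihedral`, `not_wreathed`: a simple `TwoNil` group has no semidihedral or wreathed Sylow
2-subgroup (the centraliser of a central involution would involve a quaternion group without
2-complement).
-/

set_option autoImplicit false
set_option linter.style.haveILetI false

namespace Cfsg.Agent.TwoNilCent

open Subgroup QDWreath

variable {G : Type*} [Group G] [Finite G]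

theorem no_index_two [IsSimpleGroup G] (hG : ¬ IsMulCommutative G) (H : Subgroup G) : H.index ≠ 2 := by
  intro h2
  rcases (normal_of_index_eq_two h2).eq_bot_or_eq_top with e | e
  · rw [e, index_bot] at h2
    haveI := Fact.mk Nat.prime_two
    haveI : IsCyclic G := isCyclic_of_prime_card h2
    exact hG ⟨⟨fun a b => by
      letI := IsCyclic.commGroup (α := G)
      exact mul_comm a b⟩⟩
  · rw [e, index_top] at h2
    exact absurd h2 (by norm_num)

/-- A group with a normal 2-complement has no subgroup with quaternion Sylow 2-subgroups and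
no subgroup of index two. -/
theorem false_of_residual {C : Type*} [Group C] [Finite C] (h : Cfsg.HasNormalPComplement 2 C)
    (K : Subgroup C) (hK : ∀ H : Subgroup K, H.index ≠ 2)
    (hQ : ∀ P : Sylow 2 K, ∃ m : ℕ, 1 ≤ m ∧ Nonempty ((P : Subgroup K) ≃* QuaternionGroup (2 ^ m))) :
    False := by
  haveI := Fact.mk Nat.prime_two
  have hKc := Transfer.hasNormalPComplement_iff_coprime.1 (Transfer.hasNormalPComplement_subgroup h K)
  have htop : pResidual 2 K = ⊤ := by
    by_contra hne
    obtain ⟨H, hH⟩ := Transfer.exists_index_two_iff.2 hne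
    exact hK H hH
  rw [htop, card_top] at hKc
  obtain ⟨P⟩ : Nonempty (Sylow 2 K) := inferInstance
  obtain ⟨m, -, ⟨e⟩⟩ := hQ P
  haveI : NeZero (2 ^ m) := ⟨(Nat.two_pow_pos m).ne'⟩
  have hdvd : 2 ∣ Nat.card K := by
    refine dvd_trans ⟨2 * 2 ^ m, ?_⟩ (card_subgroup_dvd_card (P : Subgroup K))
    rw [Nat.card_congr e.toEquiv, Nat.card_eq_fintype_card, QuaternionGroup.card]
    ring
  exact (Nat.prime_two.coprime_iff_not_dvd.1 hKc.symm) hdvd

variable [IsSimpleGroup G] (hG : ¬ IsMulCommutative G) (h : TwoNil G) (S : Sylow 2 G)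
include hG h

theorem not_quasiDihedral : ¬ Cfsg.IsQuasiDihedral (S : Subgroup G) := by
  intro hS
  obtain ⟨n, ⟨d⟩⟩ := nonempty_qdData hS
  set u := d.a (tp n (n - 1)) with hu
  have hc : u ∈ Subgroup.center (S : Subgroup G) := d.mem_center.2 (Or.inr rfl)
  have hSx : (S : Subgroup G) ≤ centralizer ({(u : G)} : Set G) := fun s hs =>
    mem_centralizer_singleton_iff.2 (congrArg Subtype.val (Subgroup.mem_center_iff.1 hc ⟨s, hs⟩))
  obtain ⟨-, ⟨K, -, -, hK, hQ⟩, -⟩ :=
    Transfer.SD.centralizer_case d (no_index_two hG) (x := (u : G)) rfl hSx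
  exact false_of_residual (h (u : G) ((Subgroup.orderOf_coe _).trans d.orderOf_a_half)) K hK hQ

theorem not_wreathed : ¬ Cfsg.IsWreathed (S : Subgroup G) := by
  intro hS
  obtain ⟨n, ⟨d⟩⟩ := nonempty_wrData hS
  set u := d.a (tp n (n - 1)) (tp n (n - 1)) with hu
  have hc : u ∈ Subgroup.center (S : Subgroup G) := d.mem_center.2 ⟨_, rfl⟩
  have hSx : (S : Subgroup G) ≤ centralizer ({(u : G)} : Set G) := fun s hs =>
    mem_centralizer_singleton_iff.2 (congrArg Subtype.val (Subgroup.mem_center_iff.1 hc ⟨s, hs⟩))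
  have h1 : u ≠ 1 := fun e => Transfer.WR.half_ne_zero d (d.a_inj.1 (e.trans d.a_zero.symm)).1
  have h2 : u ^ 2 = 1 := by
    rw [pow_two, hu, d.a_mul_a, ← two_mul, mul_comm, Transfer.WR.half_mul d, d.a_zero]
  have ho : orderOf (u : G) = 2 := (Subgroup.orderOf_coe _).trans (orderOf_eq_prime h2 h1)
  obtain ⟨-, ⟨K, -, -, hK, hQ⟩, -⟩ :=
    Transfer.WR.centralizer_case d (no_index_two hG) (x := (u : G)) rfl hSx
  exact false_of_residual (h (u : G) ho) K hK hQ

end Cfsg.Agent.TwoNilCent
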