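import Cfsg.Agent.Lib.TwoNilCent.Basic

/-!
# The retraction onto a Sylow subgroup given by a normal complement

* `exists_retraction` : a normal `p`-complement gives a homomorphism onto a Sylow `p`-subgroup fixing
  it pointwise, whose kernel is the set of `p'`-elements;
* `card_eq_regular_mul` : the order of a subgroup is the number of its `p'`-elements times the order of
  its image.
-/

set_option autoImplicit false
set_option linter.style.haveILetI false

namespace Cfsg.Agent.TwoNilCent

open Subgroup

variable {C : Type*} [Group C] [Finite C] {p : ℕ} [Fact p.Prime]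

theorem exists_retraction (h : Cfsg.HasNormalPComplement p C) (P : Sylow p C) :
    ∃ π : C →* (P : Subgroup C), (∀ x : (P : Subgroup C), π (x : C) = x) ∧
      ∀ c : C, π c = 1 ↔ ¬ p ∣ orderOf c := by
  have hp : p.Prime := Fact.out
  obtain ⟨N, hN, hc⟩ := (Transfer.exists_normal_isComplement'_iff P).mpr
    (Transfer.hasNormalPComplement_iff_coprime.mp h)
  haveI := hN
  have hco := Transfer.coprime_card_of_isComplement' P hc
  let f : (P : Subgroup C) →* C ⧸ N := (QuotientGroup.mk' N).comp (P : Subgroup C).subtype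
  have hf : Function.Bijective f := by
    constructor
    · refine (injective_iff_map_eq_one f).2 fun x hx => Subtype.ext ?_
      have h1 : (x : C) ∈ N := (QuotientGroup.eq_one_iff _).1 hx
      exact (mem_bot).1 (hc.disjoint.le_bot ⟨h1, x.2⟩)
    · intro q
      obtain ⟨c, rfl⟩ := QuotientGroup.mk'_surjective N q
      obtain ⟨⟨n, x⟩, hnx⟩ := hc.2 c
      refine ⟨x, ?_⟩
      show QuotientGroup.mk' N (x : C) = QuotientGroup.mk' N c
      have h1 : QuotientGroup.mk' N (n : C) = 1 := (QuotientGroup.eq_one_iff _).2 n.2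
      rw [← hnx]
      show _ = QuotientGroup.mk' N ((n : C) * (x : C))
      rw [map_mul, h1, one_mul]
  let e := MulEquiv.ofBijective f hf
  refine ⟨e.symm.toMonoidHom.comp (QuotientGroup.mk' N), fun x => e.symm_apply_apply x, fun c => ?_⟩
  show e.symm (QuotientGroup.mk' N c) = 1 ↔ _
  rw [EmbeddingLike.map_eq_one_iff]
  constructor
  · intro h1
    have hcN : c ∈ N := (QuotientGroup.eq_one_iff _).1 h1
    have hd : orderOf (⟨c, hcN⟩ : N) ∣ Nat.card N := orderOf_dvd_natCard _
    rw [Subgroup.orderOf_mk] at hd
    exact hp.coprime_iff_not_dvd.1 (hco.coprime_dvd_left hd).symm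
  · intro h1
    obtain ⟨k, hk⟩ := P.2 (e.symm (QuotientGroup.mk' N c))
    have hd1 := orderOf_dvd_of_pow_eq_one hk
    have hd2 : orderOf (e.symm (QuotientGroup.mk' N c)) ∣ orderOf c :=
      orderOf_map_dvd (e.symm.toMonoidHom.comp (QuotientGroup.mk' N)) c
    have h2 := Nat.Coprime.eq_one_of_dvd
      (((hp.coprime_iff_not_dvd.2 h1).pow_left k).symm.coprime_dvd_left hd2) hd1
    rw [orderOf_eq_one_iff, EmbeddingLike.map_eq_one_iff] at h2
    exact h2

omit [Fact p.Prime] in
open scoped Classical in
theorem card_eq_regular_mul {C' : Type*} [Group C'] (π : C →* C') (hker : ∀ c : C, π c = 1 ↔ ¬ p ∣ orderOf c) [Fintype C] :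
    Nat.card C = (Finset.univ.filter fun c : C => ¬ p ∣ orderOf c).card * Nat.card π.range := by
  rw [card_eq_card_quotient_mul_card_subgroup π.ker,
    Nat.card_congr (QuotientGroup.quotientKerEquivRange π).toEquiv, mul_comm]
  congr 1
  rw [← Fintype.card_subtype, ← Nat.card_eq_fintype_card]
  exact Nat.card_congr (Equiv.subtypeEquivRight fun c => by rw [MonoidHom.mem_ker, hker])

end Cfsg.Agent.TwoNilCent
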