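import Cfsg.Agent.Lib.TwoNilCent.Shape
import Cfsg.Agent.Lib.TwoNilCent.Retract
import Cfsg.Agent.Lib.TwoNilCent.RankTwo
import Cfsg.Agent.Lib.Involution.KleinFour
import Cfsg.Agent.Lib.Transfer.Focal
import Cfsg.Agent.S0215

/-!
# Local structure for a Sylow 2-subgroup of the shape of that of `PSU 3 F 4`

In a simple `TwoNil` group with such a Sylow 2-subgroup `S`:
* `exists_twist` : an automorphism `σ` of `S` of period three induced by conjugation, transitive on the
  involutions and fixed point free modulo the centre;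
* `Twist.fusion` : fusion of the elements of order four;
* `Twist.not_inverted` : no involution inverts an element of order four;
* `card_centralizer_eq_center`, `centralizer_noncentral` : orders of centralisers.
-/

set_option autoImplicit false
set_option linter.style.haveILetI false

namespace Cfsg.Agent.TwoNilCent

open Subgroup

variable {G : Type*} [Group G] [Finite G] {S : Sylow 2 G}

omit [Finite G] in
theorem Shape.orderOf_center (hS : Shape (S : Subgroup G)) {c : (S : Subgroup G)}
    (hc : c ∈ Subgroup.center (S : Subgroup G)) (hc1 : c ≠ 1) : orderOf (c : G) = 2 :=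
  (Subgroup.orderOf_coe c).trans (orderOf_eq_prime (by rw [pow_two]; exact (hS.inv_iff c).2 hc) hc1)

omit [Finite G] in
theorem Shape.orderOf_noncentral (hS : Shape (S : Subgroup G)) {s : (S : Subgroup G)}
    (hs : s ∉ Subgroup.center (S : Subgroup G)) : orderOf (s : G) = 4 := by
  haveI := Fact.mk Nat.prime_two
  rw [Subgroup.orderOf_coe]
  refine orderOf_eq_prime_pow (p := 2) (n := 1) ?_ ?_
  · rw [pow_one, pow_two]
    exact fun h => hs ((hS.inv_iff s).1 h)
  · rw [show (2 : ℕ) ^ (1 + 1) = 2 * 2 by norm_num, pow_mul, pow_two, pow_two]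
    exact (hS.inv_iff _).2 (hS.sq_center s)

omit [Finite G] in
theorem centralizer_center_le {c : (S : Subgroup G)} (hc : c ∈ Subgroup.center (S : Subgroup G)) :
    (S : Subgroup G) ≤ centralizer ({(c : G)} : Set G) := fun s hs =>
  mem_centralizer_singleton_iff.2 (congrArg Subtype.val (Subgroup.mem_center_iff.1 hc ⟨s, hs⟩))

/-- The retraction of `C(c)` on `S`. -/
theorem exists_retraction_centre (h : TwoNil G) (hS : Shape (S : Subgroup G)) {c : (S : Subgroup G)}
    (hc : c ∈ Subgroup.center (S : Subgroup G)) (hc1 : c ≠ 1) :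
    ∃ π : ↥(centralizer ({(c : G)} : Set G)) →* (S : Subgroup G),
      (∀ (x : ↥(centralizer ({(c : G)} : Set G))) (hx : (x : G) ∈ (S : Subgroup G)), π x = ⟨x, hx⟩) ∧
        ∀ x, π x = 1 ↔ ¬ 2 ∣ orderOf x := by
  haveI := Fact.mk Nat.prime_two
  have hle := centralizer_center_le hc
  obtain ⟨π, hfix, hker⟩ := exists_retraction (h _ (hS.orderOf_center hc hc1)) (S.subtype hle)
  let e : ((S.subtype hle : Sylow 2 _) : Subgroup ↥(centralizer ({(c : G)} : Set G))) ≃*
      (S : Subgroup G) :=
    (MulEquiv.subgroupCongr (Sylow.coe_subtype S hle)).trans (Subgroup.subgroupOfEquivOfLe hle)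
  refine ⟨e.toMonoidHom.comp π, fun x hx => ?_, fun x => ?_⟩
  · have hxP : x ∈ ((S.subtype hle : Sylow 2 _) : Subgroup ↥(centralizer ({(c : G)} : Set G))) := hx
    show e (π x) = _
    rw [hfix ⟨x, hxP⟩]
    exact Subtype.ext rfl
  · show e (π x) = 1 ↔ _
    rw [EmbeddingLike.map_eq_one_iff, hker]

/-- An automorphism of `S` induced in `G`, as found in `exists_twist`. -/
structure Twist (S : Sylow 2 G) (σ : (S : Subgroup G) ≃* (S : Subgroup G)) : Prop where
  conj : ∀ s : (S : Subgroup G), IsConj (s : G) (σ s : G)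
  cube : ∀ s, σ (σ (σ s)) = s
  fpf : ∀ s : (S : Subgroup G), s ∉ Subgroup.center (S : Subgroup G) →
    s⁻¹ * σ s ∉ Subgroup.center (S : Subgroup G)
  centre : ∀ c c' : (S : Subgroup G), c ∈ Subgroup.center (S : Subgroup G) → c ≠ 1 →
    c' ∈ Subgroup.center (S : Subgroup G) → c' ≠ 1 → c' = c ∨ c' = σ c ∨ c' = σ (σ c)

variable [IsSimpleGroup G]

theorem exists_moving (hG : ¬ IsMulCommutative G) (hS : Shape (S : Subgroup G)) {c : (S : Subgroup G)}
    (hc : c ∈ Subgroup.center (S : Subgroup G)) (hc1 : c ≠ 1) :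
    ∃ y ∈ normalizer ((S : Subgroup G) : Set G), Nat.Coprime (orderOf y) 2 ∧
      ¬ y * (c : G) = c * y := by
  haveI := Fact.mk Nat.prime_two
  by_contra hno
  simp only [not_exists, not_and, not_not] at hno
  set z : G := (c : G) with hz
  have hzo : orderOf z = 2 := hS.orderOf_center hc hc1
  have hcz : ∀ x ∈ (S : Subgroup G), x * z = z * x := fun x hx =>
    congrArg Subtype.val (Subgroup.mem_center_iff.1 hc ⟨x, hx⟩)
  have hfix : ∀ n ∈ normalizer ((S : Subgroup G) : Set G), n * z * n⁻¹ = z := by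
    intro n hn
    obtain ⟨a, b, hab, ha, hb, ⟨k, hk⟩, hbo⟩ := Transfer.exists_pPart_mul (p := 2) n
    have haN : a ∈ normalizer ((S : Subgroup G) : Set G) := (zpowers_le.2 hn) ha
    have hbN : b ∈ normalizer ((S : Subgroup G) : Set G) := (zpowers_le.2 hn) hb
    have hA : IsPGroup 2 (zpowers a) := IsPGroup.of_card (n := k) (by rw [Nat.card_zpowers, hk])
    have haS : a ∈ (S : Subgroup G) := by
      rw [← S.3 (hA.to_sup_of_normal_right' S.2 (zpowers_le.2 haN)) le_sup_right]
      exact mem_sup_left (mem_zpowers a)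
    rw [hab, mul_inv_eq_iff_eq_mul, mul_assoc, hno b hbN hbo, ← mul_assoc, hcz a haS, mul_assoc]
  have hiso : ∀ g : G, g * z * g⁻¹ ∈ (S : Subgroup G) → g * z * g⁻¹ = z := by
    intro g hg
    set z' : G := g * z * g⁻¹ with hz'
    have h2 : (⟨z', hg⟩ : (S : Subgroup G)) * ⟨z', hg⟩ = 1 := Subtype.ext (by
      show z' * z' = 1
      have hz2 := pow_orderOf_eq_one z
      rw [hzo, pow_two] at hz2
      rw [hz', show g * z * g⁻¹ * (g * z * g⁻¹) = g * (z * z) * g⁻¹ by group, hz2, mul_one,
        mul_inv_cancel])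
    have hc' := (hS.inv_iff _).1 h2
    have hinv : ∀ u : G, (∀ x ∈ (S : Subgroup G), x * u = u * x) → ∀ x ∈ (S : Subgroup G),
        (fun y => x * y * x⁻¹) '' {u} = {u} := fun u hu x hx => by
      rw [Set.image_singleton, hu x hx, mul_inv_cancel_right]
    obtain ⟨n, hn, hnz⟩ := Transfer.exists_normalizer_conj_image S (X := {z}) (Y := {z'})
      (hinv z hcz) (hinv z' fun x hx => congrArg Subtype.val (Subgroup.mem_center_iff.1 hc' ⟨x, hx⟩))
      (g := g) (by rw [Set.image_singleton, hz'])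
    rw [Set.image_singleton, Set.singleton_eq_singleton_iff, hfix n hn] at hnz
    exact hnz.symm
  obtain ⟨N, hN, hNo, hNz⟩ := S0215.result S z hzo c.2 hiso
  rcases hN.eq_bot_or_eq_top with e | e
  · subst e
    have hzc : z ∈ Subgroup.center G := Subgroup.mem_center_iff.2 fun g =>
      ((mul_inv_eq_iff_eq_mul.1 (mul_inv_eq_one.1 (hNz g))).symm)
    rcases (inferInstance : (Subgroup.center G).Normal).eq_bot_or_eq_top with e | e
    · rw [e, mem_bot] at hzc
      rw [hzc, orderOf_one] at hzo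
      omega
    · exact hG ⟨⟨fun a b => Subgroup.mem_center_iff.1 (e ▸ mem_top b : b ∈ Subgroup.center G) a⟩⟩
  · rw [e, card_top] at hNo
    exact (Nat.not_even_iff_odd.2 hNo) (even_iff_two_dvd.2 (hzo ▸ orderOf_dvd_natCard z))

theorem exists_twist (hG : ¬ IsMulCommutative G) (h : TwoNil G) (hS : Shape (S : Subgroup G)) :
    ∃ σ : (S : Subgroup G) ≃* (S : Subgroup G), Twist S σ := by
  classical
  haveI := Fact.mk Nat.prime_two
  haveI := Fintype.ofFinite (S : Subgroup G)
  set Z := Subgroup.center (S : Subgroup G) with hZ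
  obtain ⟨c0, hc0, hc01⟩ : ∃ c ∈ Z, c ≠ 1 := by
    by_contra hno
    simp only [not_exists, not_and, not_not] at hno
    have := hS.center_card
    rw [show Subgroup.center (S : Subgroup G) = ⊥ from (Subgroup.eq_bot_iff_forall _).2 hno,
      card_bot] at this
    omega
  obtain ⟨y, hy, hyo, hyc⟩ := exists_moving hG hS hc0 hc01
  let σ : (S : Subgroup G) ≃* (S : Subgroup G) :=
    { toFun := fun s => ⟨y * (s : G) * y⁻¹, (mem_normalizer_iff.1 hy (s : G)).1 s.2⟩
      invFun := fun s => ⟨y⁻¹ * (s : G) * y, by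
        have := (mem_normalizer_iff.1 (inv_mem hy) (s : G)).1 s.2
        rwa [inv_inv] at this⟩
      left_inv := fun s => Subtype.ext (by show y⁻¹ * (y * (s : G) * y⁻¹) * y = s; group)
      right_inv := fun s => Subtype.ext (by show y * (y⁻¹ * (s : G) * y) * y⁻¹ = s; group)
      map_mul' := fun s t => Subtype.ext (by
        show y * ((s : G) * t) * y⁻¹ = (y * s * y⁻¹) * (y * t * y⁻¹); group) }
  have hσv : ∀ s, ((σ s : (S : Subgroup G)) : G) = y * (s : G) * y⁻¹ := fun _ => rfl
  have hσZ : ∀ w, w ∈ Z → σ w ∈ Z := fun w hw => (hS.inv_iff _).1 (by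
    rw [← map_mul, (hS.inv_iff w).2 hw, map_one])
  have key : ∀ (k : G), k ∈ zpowers y → ∀ w ∈ Z, w ≠ 1 → k * (w : G) = w * k →
      ∀ s : (S : Subgroup G), k * (s : G) = s * k := fun k hk w hw hw1 he s =>
    (mem_centralizer_iff.1 (h.centralizes (hS.orderOf_center hw hw1) S.2
      (fun r hr => congrArg Subtype.val (Subgroup.mem_center_iff.1 hw ⟨r, hr⟩)) he
      (zpowers_le.2 hy hk) (hyo.coprime_dvd_left (orderOf_dvd_of_mem_zpowers hk))) s s.2).symm
  have hne1 : ∀ w ∈ Z, w ≠ 1 → σ w ≠ w := fun w hw hw1 e => hyc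
    (key y (mem_zpowers y) w hw hw1 (by rw [← mul_inv_eq_iff_eq_mul, ← hσv, e]) c0)
  have hne2 : ∀ w ∈ Z, w ≠ 1 → σ (σ w) ≠ w := by
    intro w hw hw1 e
    have e' : y * y * (w : G) = w * (y * y) := by
      have h' := congrArg Subtype.val e
      rw [hσv, hσv] at h'
      calc y * y * (w : G) = (y * (y * (w : G) * y⁻¹) * y⁻¹) * (y * y) := by group
        _ = _ := by rw [h']
    obtain ⟨j, hj⟩ := Nat.coprime_two_right.1 hyo
    have hy' : y = (y * y) ^ (j + 1) := by
      rw [← pow_two, ← pow_mul, show 2 * (j + 1) = orderOf y + 1 by omega, pow_add, pow_orderOf_eq_one,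
        one_mul, pow_one]
    refine hne1 w hw hw1 (Subtype.ext ?_)
    rw [hσv, mul_inv_eq_iff_eq_mul, hy']
    exact ((show Commute (y * y) (w : G) from e').pow_left _).eq
  have hfour : ∀ w ∈ Z, w ≠ 1 → ∀ c ∈ Z, c = 1 ∨ c = w ∨ c = σ w ∨ c = σ (σ w) := by
    intro w hw hw1 c hc
    let T : Finset (S : Subgroup G) := {1, w, σ w, σ (σ w)}
    have hT : T = Finset.univ.filter (· ∈ Z) := by
      refine Finset.eq_of_subset_of_card_le (fun x hx => ?_) (le_of_eq ?_)
      · simp only [T, Finset.mem_insert, Finset.mem_singleton] at hx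
        refine Finset.mem_filter.2 ⟨Finset.mem_univ _, ?_⟩
        rcases hx with rfl | rfl | rfl | rfl
        exacts [one_mem _, hw, hσZ _ hw, hσZ _ (hσZ _ hw)]
      · rw [← Fintype.card_subtype, ← Nat.card_eq_fintype_card]
        refine (show Nat.card Z = 4 from hS.center_card).trans ?_
        have e1 : σ w ≠ 1 := fun e => hw1 (σ.injective (e.trans σ.map_one.symm))
        have e2 : σ (σ w) ≠ 1 := fun e => e1 (σ.injective (e.trans σ.map_one.symm))
        rw [Finset.card_insert_of_notMem, Finset.card_insert_of_notMem, Finset.card_pair]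
        · exact fun e => hne1 w hw hw1 (σ.injective e.symm)
        · simp [Ne.symm (hne1 w hw hw1), Ne.symm (hne2 w hw hw1)]
        · simp [Ne.symm hw1, Ne.symm e1, Ne.symm e2]
    have : c ∈ T := by rw [hT]; simp [hc]
    simpa [T] using this
  have hcube0 : σ (σ (σ c0)) = c0 := by
    rcases hfour c0 hc0 hc01 _ (hσZ _ (hσZ _ (hσZ _ hc0))) with e | e | e | e
    · rw [EmbeddingLike.map_eq_one_iff, EmbeddingLike.map_eq_one_iff, EmbeddingLike.map_eq_one_iff] at e
      exact absurd e hc01
    · exact e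
    · exact absurd (σ.injective e) (hne2 c0 hc0 hc01)
    · exact absurd (σ.injective (σ.injective e)) (hne1 c0 hc0 hc01)
  refine ⟨σ, fun s => isConj_iff.2 ⟨y, rfl⟩, fun s => ?_, fun s hs hcs => ?_, fun c c' hc hc1 hc' hc'1 =>
    (hfour c hc hc1 c' hc').resolve_left hc'1⟩
  · have h3 : y * y * y * (c0 : G) = c0 * (y * y * y) := by
      have h' := congrArg Subtype.val hcube0
      rw [hσv, hσv, hσv] at h'
      calc y * y * y * (c0 : G) = (y * (y * (y * (c0 : G) * y⁻¹) * y⁻¹) * y⁻¹) * (y * y * y) := by group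
        _ = _ := by rw [h']
    have h4 := key (y * y * y) (mul_mem (mul_mem (mem_zpowers y) (mem_zpowers y)) (mem_zpowers y))
      c0 hc0 hc01 h3 s
    refine Subtype.ext ?_
    rw [hσv, hσv, hσv]
    calc y * (y * (y * (s : G) * y⁻¹) * y⁻¹) * y⁻¹ = y * y * y * (s : G) * (y * y * y)⁻¹ := by group
      _ = _ := by rw [h4, mul_inv_cancel_right]
  · have hs2 : s * s ≠ 1 := fun e => hs ((hS.inv_iff s).1 e)
    refine hne1 (s * s) (hS.sq_center s) hs2 ?_
    have hu : (s⁻¹ * σ s) * (s⁻¹ * σ s) = 1 := (hS.inv_iff _).2 hcs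
    have he : σ s = s * (s⁻¹ * σ s) := (mul_inv_cancel_left _ _).symm
    have hcm : (s⁻¹ * σ s) * s = s * (s⁻¹ * σ s) := ((Subgroup.mem_center_iff.1 hcs) s).symm
    calc σ (s * s) = s * ((s⁻¹ * σ s) * s) * (s⁻¹ * σ s) := by rw [map_mul]; group
      _ = s * s * ((s⁻¹ * σ s) * (s⁻¹ * σ s)) := by rw [hcm]; group
      _ = s * s := by rw [hu, mul_one]

variable {σ : (S : Subgroup G) ≃* (S : Subgroup G)}

omit [IsSimpleGroup G] in
/-- Every involution is conjugate to a given central involution of `S`. -/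
theorem Twist.isConj_involution (hσ : Twist S σ) (hS : Shape (S : Subgroup G)) {c : (S : Subgroup G)}
    (hc : c ∈ Subgroup.center (S : Subgroup G)) (hc1 : c ≠ 1) {t : G} (ht : orderOf t = 2) :
    IsConj (c : G) t := by
  obtain ⟨g, hg⟩ := Involution.exists_conj_mem_sylow S ht
  set t' : (S : Subgroup G) := ⟨g * t * g⁻¹, hg⟩ with ht'
  have ho : orderOf t' = 2 := by rw [ht', Subgroup.orderOf_mk, SecondMain.orderOf_conj, ht]
  have h1 : t' ≠ 1 := fun e => by rw [e, orderOf_one] at ho; omega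
  have h2 : t' * t' = 1 := by
    have h2 := pow_orderOf_eq_one t'
    rwa [ho, pow_two] at h2
  have h3 : IsConj (c : G) (t' : G) := by
    rcases hσ.centre c t' hc hc1 ((hS.inv_iff _).1 h2) h1 with e | e | e <;> rw [e]
    · exact hσ.conj c
    · exact (hσ.conj c).trans (hσ.conj _)
  exact h3.trans (isConj_iff.2 ⟨g⁻¹, by simp [ht', mul_assoc]⟩)

omit [IsSimpleGroup G] in
theorem fusion_aux (h : TwoNil G) (hS : Shape (S : Subgroup G)) {s t : (S : Subgroup G)}
    (hs : s ∉ Subgroup.center (S : Subgroup G)) (hst : IsConj (s : G) (t : G)) (hsq : t * t = s * s) :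
    t * s⁻¹ ∈ Subgroup.center (S : Subgroup G) := by
  obtain ⟨g, hg⟩ := isConj_iff.1 hst
  set w := s * s with hw
  have hwZ := hS.sq_center s
  have hw1 : w ≠ 1 := fun e => hs ((hS.inv_iff s).1 e)
  obtain ⟨π, hfix, -⟩ := exists_retraction_centre h hS hwZ hw1
  have hgw : g * (w : G) = (w : G) * g := by
    refine mul_inv_eq_iff_eq_mul.1 ?_
    calc g * (w : G) * g⁻¹ = (g * (s : G) * g⁻¹) * (g * (s : G) * g⁻¹) := by
          rw [hw, Subgroup.coe_mul]; group
      _ = ((t * t : (S : Subgroup G)) : G) := by rw [hg, Subgroup.coe_mul]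
      _ = (w : G) := by rw [hsq]
  let g' : ↥(centralizer ({(w : G)} : Set G)) := ⟨g, mem_centralizer_singleton_iff.2 hgw⟩
  let s' : ↥(centralizer ({(w : G)} : Set G)) := ⟨s, centralizer_center_le hwZ s.2⟩
  let t' : ↥(centralizer ({(w : G)} : Set G)) := ⟨t, centralizer_center_le hwZ t.2⟩
  have h1 : t' = g' * s' * g'⁻¹ := Subtype.ext hg.symm
  have h2 := congrArg π h1
  rw [map_mul, map_mul, map_inv, hfix s' s.2, hfix t' t.2] at h2
  rw [show t = π g' * s * (π g')⁻¹ from h2]
  exact hS.commutator_mem _ _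

omit [IsSimpleGroup G] in
/-- Fusion of the elements of order four. -/
theorem Twist.fusion (hσ : Twist S σ) (h : TwoNil G) (hS : Shape (S : Subgroup G))
    {s t : (S : Subgroup G)} (hs : s ∉ Subgroup.center (S : Subgroup G)) (hst : IsConj (s : G) (t : G)) :
    t * s⁻¹ ∈ Subgroup.center (S : Subgroup G) ∨ t * (σ s)⁻¹ ∈ Subgroup.center (S : Subgroup G) ∨
      t * (σ (σ s))⁻¹ ∈ Subgroup.center (S : Subgroup G) := by
  have hmap : ∀ a : (S : Subgroup G), a ∈ Subgroup.center (S : Subgroup G) →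
      σ a ∈ Subgroup.center (S : Subgroup G) := fun a ha => (hS.inv_iff _).1 (by
    rw [← map_mul, (hS.inv_iff a).2 ha, map_one])
  have hw1 : s * s ≠ 1 := fun e => hs ((hS.inv_iff s).1 e)
  have ht2 : t * t ≠ 1 := fun e => by
    have h4 := hS.orderOf_noncentral hs
    have : orderOf (t : G) = orderOf (s : G) := by
      obtain ⟨g, hg⟩ := isConj_iff.1 hst
      rw [← hg, SecondMain.orderOf_conj]
    rw [h4, Subgroup.orderOf_coe] at this
    have h5 := orderOf_dvd_of_pow_eq_one ((pow_two t).trans e)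
    rw [this] at h5
    omega
  rcases hσ.centre (s * s) (t * t) (hS.sq_center s) hw1 (hS.sq_center t) ht2 with e | e | e
  · exact Or.inl (fusion_aux h hS hs hst e)
  · refine Or.inr (Or.inl ?_)
    have := hmap _ (fusion_aux h hS hs ((hst.trans (hσ.conj t)).trans (hσ.conj _))
      (by rw [← map_mul, ← map_mul, e, hσ.cube]))
    rwa [map_mul, map_inv, hσ.cube] at this
  · refine Or.inr (Or.inr ?_)
    have := hmap _ (hmap _ (fusion_aux h hS hs (hst.trans (hσ.conj t))
      (by rw [← map_mul, e, hσ.cube])))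
    rwa [map_mul, map_mul, map_inv, map_inv, hσ.cube] at this

omit [IsSimpleGroup G] in
/-- Conversely the three cosets are conjugate to `s`. -/
theorem Twist.isConj_coset (hσ : Twist S σ) (hS : Shape (S : Subgroup G))
    {s t : (S : Subgroup G)} (hs : s ∉ Subgroup.center (S : Subgroup G))
    (h : t * s⁻¹ ∈ Subgroup.center (S : Subgroup G) ∨ t * (σ s)⁻¹ ∈ Subgroup.center (S : Subgroup G) ∨
      t * (σ (σ s))⁻¹ ∈ Subgroup.center (S : Subgroup G)) : IsConj (s : G) (t : G) := by
  have hmap : ∀ a : (S : Subgroup G), σ a ∈ Subgroup.center (S : Subgroup G) →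
      a ∈ Subgroup.center (S : Subgroup G) := fun a ha => (hS.inv_iff _).1 (by
    have := (hS.inv_iff _).2 ha
    rwa [← map_mul, EmbeddingLike.map_eq_one_iff] at this)
  have key : ∀ u : (S : Subgroup G), u ∉ Subgroup.center (S : Subgroup G) →
      t * u⁻¹ ∈ Subgroup.center (S : Subgroup G) → IsConj (u : G) (t : G) := by
    intro u hu hc
    obtain ⟨w, hw⟩ := hS.exists_conj hu hc
    refine isConj_iff.2 ⟨(w : G), ?_⟩
    have := congrArg Subtype.val hw
    simpa using this
  rcases h with e | e | e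
  · exact key s hs e
  · exact (hσ.conj s).trans (key _ (fun h' => hs (hmap _ h')) e)
  · exact ((hσ.conj s).trans (hσ.conj _)).trans (key _ (fun h' => hs (hmap _ (hmap _ h'))) e)

omit [IsSimpleGroup G] in
/-- No involution inverts an element of order four. -/
theorem not_inverted (h : TwoNil G) (hS : Shape (S : Subgroup G)) {u g : G} (hu : u * u = 1)
    (hg : orderOf g = 4) : u * g * u⁻¹ ≠ g⁻¹ := by
  haveI := Fact.mk Nat.prime_two
  intro hinv
  obtain ⟨a, ha⟩ := Transfer.exists_conj_mem_sylow S (t := g) (k := 2) (by rw [hg]; norm_num)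
  set s : (S : Subgroup G) := ⟨a * g * a⁻¹, ha⟩ with hs
  set v : G := a * u * a⁻¹ with hv
  have hso : orderOf s = 4 := by rw [hs, Subgroup.orderOf_mk, SecondMain.orderOf_conj, hg]
  have hs2 : s * s ≠ 1 := fun e => by
    have := orderOf_dvd_of_pow_eq_one ((pow_two s).trans e)
    rw [hso] at this
    omega
  have hsn : s ∉ Subgroup.center (S : Subgroup G) := fun e => hs2 ((hS.inv_iff s).2 e)
  have hvs : v * (s : G) * v⁻¹ = (s : G)⁻¹ := by
    calc v * (s : G) * v⁻¹ = a * (u * g * u⁻¹) * a⁻¹ := by rw [hs, hv]; group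
      _ = (s : G)⁻¹ := by rw [hinv, hs]; group
  have hwZ := hS.sq_center s
  obtain ⟨π, hfix, -⟩ := exists_retraction_centre h hS hwZ hs2
  have hw4 : ((s * s : (S : Subgroup G)) : G)⁻¹ = ((s * s : (S : Subgroup G)) : G) :=
    inv_eq_of_mul_eq_one_right (congrArg Subtype.val ((hS.inv_iff _).2 hwZ))
  have hvw : v * ((s * s : (S : Subgroup G)) : G) = ((s * s : (S : Subgroup G)) : G) * v := by
    refine mul_inv_eq_iff_eq_mul.1 ?_
    conv_rhs => rw [← hw4]
    calc v * ((s * s : (S : Subgroup G)) : G) * v⁻¹ = (v * (s : G) * v⁻¹) * (v * (s : G) * v⁻¹) := by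
          rw [Subgroup.coe_mul]; group
      _ = _ := by rw [hvs, Subgroup.coe_mul]; exact (mul_inv_rev _ _).symm
  let v' : ↥(centralizer ({((s * s : (S : Subgroup G)) : G)} : Set G)) :=
    ⟨v, mem_centralizer_singleton_iff.2 hvw⟩
  let s' : ↥(centralizer ({((s * s : (S : Subgroup G)) : G)} : Set G)) :=
    ⟨s, centralizer_center_le hwZ s.2⟩
  have h1 : v' * s' * v'⁻¹ = s'⁻¹ := Subtype.ext hvs
  have hv2 : v' * v' = 1 := Subtype.ext (by
    show v * v = 1
    rw [hv, show a * u * a⁻¹ * (a * u * a⁻¹) = a * (u * u) * a⁻¹ by group, hu, mul_one, mul_inv_cancel])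
  have hc : π v' ∈ Subgroup.center (S : Subgroup G) := (hS.inv_iff _).1 (by rw [← map_mul, hv2, map_one])
  have h2 := congrArg π h1
  rw [map_mul, map_mul, map_inv, map_inv, hfix s' s.2, ← Subgroup.mem_center_iff.1 hc, mul_inv_cancel_right]
    at h2
  exact hs2 (mul_eq_one_iff_eq_inv.2 h2)

omit [IsSimpleGroup G] in
open scoped Classical in
theorem card_centralizer_eq_center (h : TwoNil G) (hS : Shape (S : Subgroup G)) {c : (S : Subgroup G)}
    (hc : c ∈ Subgroup.center (S : Subgroup G)) (hc1 : c ≠ 1)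
    [Fintype ↥(centralizer ({(c : G)} : Set G))] :
    Nat.card ↥(centralizer ({(c : G)} : Set G)) =
      (Finset.univ.filter fun x : ↥(centralizer ({(c : G)} : Set G)) => ¬ 2 ∣ orderOf x).card * 64 := by
  haveI := Fact.mk Nat.prime_two
  obtain ⟨π, hfix, hker⟩ := exists_retraction_centre h hS hc hc1
  have htop : π.range = ⊤ := MonoidHom.range_eq_top.2 fun x =>
    ⟨⟨x, centralizer_center_le hc x.2⟩, hfix _ x.2⟩
  rw [card_eq_regular_mul π hker, htop, card_top, hS.card]

omit [IsSimpleGroup G] in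
open scoped Classical in
/-- Centralisers of elements of order four have normal 2-complements of index 16. -/
theorem centralizer_noncentral (h : TwoNil G) (hS : Shape (S : Subgroup G)) {s : (S : Subgroup G)}
    (hs : s ∉ Subgroup.center (S : Subgroup G)) [Fintype ↥(centralizer ({(s : G)} : Set G))] :
    Cfsg.HasNormalPComplement 2 ↥(centralizer ({(s : G)} : Set G)) ∧
      Nat.card ↥(centralizer ({(s : G)} : Set G)) =
        (Finset.univ.filter fun x : ↥(centralizer ({(s : G)} : Set G)) => ¬ 2 ∣ orderOf x).card * 16 := by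
  haveI := Fact.mk Nat.prime_two
  have hwZ := hS.sq_center s
  have hs2 : s * s ≠ 1 := fun e => hs ((hS.inv_iff s).1 e)
  have hle : centralizer ({(s : G)} : Set G) ≤ centralizer ({((s * s : (S : Subgroup G)) : G)} : Set G) :=
    fun g hg => by
      have h1 : Commute g (s : G) := mem_centralizer_singleton_iff.1 hg
      exact mem_centralizer_singleton_iff.2 (h1.mul_right h1).eq
  refine ⟨Transfer.hasNormalPComplement_of_injective (h _ (hS.orderOf_center hwZ hs2))
    (inclusion hle) (inclusion_injective hle), ?_⟩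
  obtain ⟨π, hfix, hker⟩ := exists_retraction_centre h hS hwZ hs2
  have hker' : ∀ x, (π.comp (inclusion hle)) x = 1 ↔ ¬ 2 ∣ orderOf x := fun x => by
    rw [MonoidHom.comp_apply, hker, orderOf_injective (inclusion hle) (inclusion_injective hle)]
  have hr : (π.comp (inclusion hle)).range = centralizer ({s} : Set (S : Subgroup G)) := by
    refine le_antisymm ?_ fun x hx => ⟨⟨x, mem_centralizer_singleton_iff.2
      (congrArg Subtype.val (mem_centralizer_singleton_iff.1 hx))⟩, hfix _ x.2⟩
    rintro _ ⟨x, rfl⟩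
    refine mem_centralizer_singleton_iff.2 ?_
    let s' : ↥(centralizer ({(s : G)} : Set G)) := ⟨s, mem_centralizer_singleton_iff.2 rfl⟩
    have h1 : x * s' = s' * x := Subtype.ext (mem_centralizer_singleton_iff.1 x.2)
    have h2 : (π.comp (inclusion hle)) s' = s := hfix _ s.2
    have h3 := congrArg (π.comp (inclusion hle)) h1
    rw [map_mul, map_mul, h2] at h3
    exact h3
  rw [card_eq_regular_mul (π.comp (inclusion hle)) hker', hr, hS.cent_card s hs]

end Cfsg.Agent.TwoNilCent
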