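import Cfsg.Agent.EqLemmas
import Cfsg.Agent.Lib.Unitary.SylowThree

/-!
# The shape of a Sylow 2-subgroup of `PSU 3 F 4`

`Shape T` : order 64, centre of order 4 consisting of all `x` with `x * x = 1`, squares central,
noncentral centralisers of order 16. `shape_psu` : the Sylow 2-subgroups of `PSU 3 F 4` have it.
-/

set_option autoImplicit false
set_option linter.style.haveILetI false

namespace Cfsg.Agent.TwoNilCent

open Subgroup Cfsg.Agent.Unitary

/-- The properties of the Sylow 2-subgroup of `PSU 3 F 4` used below. -/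
structure Shape (T : Type*) [Group T] : Prop where
  card : Nat.card T = 64
  center_card : Nat.card (Subgroup.center T) = 4
  sq_center : ∀ x : T, x * x ∈ Subgroup.center T
  inv_iff : ∀ x : T, x * x = 1 ↔ x ∈ Subgroup.center T
  cent_card : ∀ x : T, x ∉ Subgroup.center T → Nat.card (centralizer ({x} : Set T)) = 16

theorem Shape.congr {A B : Type*} [Group A] [Group B] (e : A ≃* B) (h : Shape A) : Shape B := by
  have hc : ∀ b : B, b ∈ Subgroup.center B ↔ e.symm b ∈ Subgroup.center A := fun b => by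
    simp only [Subgroup.mem_center_iff]
    exact ⟨fun hb a => e.injective (by simpa using hb (e a)),
      fun hb a => e.symm.injective (by simpa using hb (e.symm a))⟩
  refine ⟨(Nat.card_congr e.toEquiv).symm.trans h.card, ?_, fun x => ?_, fun x => ?_, fun x hx => ?_⟩
  · rw [← h.center_card]
    exact (Nat.card_congr (e.toEquiv.subtypeEquiv fun a => (by
      show a ∈ Subgroup.center A ↔ e a ∈ Subgroup.center B
      rw [hc, e.symm_apply_apply]))).symm
  · rw [hc, map_mul]
    exact h.sq_center _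
  · rw [hc, ← h.inv_iff, ← map_mul]
    exact (map_eq_one_iff _ e.symm.injective).symm
  · rw [← h.cent_card (e.symm x) (fun h' => hx ((hc x).2 h'))]
    exact Nat.card_congr (e.symm.toEquiv.subtypeEquiv fun b => (by
      show b ∈ centralizer ({x} : Set B) ↔ e.symm b ∈ centralizer ({e.symm x} : Set A)
      simp only [mem_centralizer_singleton_iff, ← map_mul, e.symm.injective.eq_iff]))

theorem shape_sylThree {F : Type*} [Field F] [Fintype F] (hF : Fintype.card F = 4 ^ 2) (h2 : (2 : F) = 0) :
    Shape (sylThree hF h2) := by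
  classical
  refine ⟨by rw [card_sylThree]; norm_num, card_center, fun x => ?_, fun x => ?_, fun g hg => ?_⟩
  · exact (Unitary.mem_center_iff _).2 (coord_sq x).1
  · rw [Unitary.sq_eq_one_iff, Unitary.mem_center_iff]
  set a := coordA g with hadef
  have ha : a ≠ 0 := fun e => hg ((Unitary.mem_center_iff g).2 e)
  have hcomm : ∀ g' : sylThree hF h2,
      g' ∈ centralizer ({g} : Set (sylThree hF h2)) ↔ (coordA g' / a) ^ 4 = coordA g' / a := by
    intro g'
    rw [mem_centralizer_singleton_iff, div_pow, div_eq_div_iff (pow_ne_zero _ ha) ha]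
    constructor
    · intro h
      have h' := congrArg coordB h
      rw [(coord_mul g' g).2, (coord_mul g g').2] at h'
      linear_combination h'
    · intro h
      refine ext' (by rw [(coord_mul g' g).1, (coord_mul g g').1, add_comm]) ?_
      rw [(coord_mul g' g).2, (coord_mul g g').2]
      linear_combination h
  let e : centralizer ({g} : Set (sylThree hF h2)) ≃
      (c : {x : F // x ^ 4 = x}) × {b : F // b + b ^ 4 = (c.1 * a) ^ (4 + 1)} :=
    Equiv.ofBijective (fun g' => ⟨⟨coordA g'.1 / a, (hcomm g'.1).1 g'.2⟩,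
      ⟨coordB g'.1, by rw [div_mul_cancel₀ _ ha]; exact (coe_eq g'.1).2⟩⟩) <| by
    constructor
    · intro g' g'' h
      obtain ⟨hc, hb⟩ := Sigma.subtype_ext_iff.1 h
      exact Subtype.ext (ext' ((div_left_inj' ha).1 (congrArg Subtype.val hc)) hb)
    · rintro ⟨⟨c, hc⟩, ⟨b, hb⟩⟩
      obtain ⟨g', hA, hB⟩ := exists_mk (hF := hF) (h2 := h2) hb
      exact ⟨⟨g', (hcomm g').2 (by rw [hA, mul_div_assoc, div_self ha, mul_one]; exact hc)⟩,
        Sigma.subtype_ext (Subtype.ext (by
          show coordA g' / a = c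
          rw [hA, mul_div_assoc, div_self ha, mul_one])) hB⟩
  rw [Nat.card_congr e, Nat.card_sigma, Finset.sum_congr rfl fun c _ => card_fibre (hF := hF) (h2 := h2) _ rfl,
    Finset.sum_const, Finset.card_univ, smul_eq_mul, ← Nat.card_eq_fintype_card, card_fixed hF]

theorem shape_psu {F : Type*} [Field F] [Fintype F] (hF : Fintype.card F = 16)
    (P : Sylow 2 (Cfsg.PSU 3 F 4)) : Shape (P : Subgroup (Cfsg.PSU 3 F 4)) := by
  have hF' : Fintype.card F = 4 ^ 2 := hF.trans (by norm_num)
  have h2 : (2 : F) = 0 := by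
    haveI : Fact (Nat.Prime 2) := ⟨Nat.prime_two⟩
    obtain ⟨p, hp⟩ := CharP.exists F
    haveI := hp
    obtain ⟨n, hpp, hc⟩ := FiniteField.card F p
    have : p = 2 := (Nat.prime_dvd_prime_iff_eq hpp Nat.prime_two).1
      (hpp.dvd_of_dvd_pow (show p ∣ 2 ^ 4 from ⟨p ^ ((n : ℕ) - 1), by
        rw [← pow_succ', Nat.sub_add_cancel (show 1 ≤ (n : ℕ) from n.2), ← hc, hF]; norm_num⟩))
    subst this
    exact_mod_cast CharP.cast_eq_zero F 2
  obtain ⟨e⟩ := exists_equiv (q := 4) (n := 2) (by norm_num) (by norm_num) hF' h2 P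
  exact (shape_sylThree hF' h2).congr e

/-- In a group of this shape commutators are central. -/
theorem Shape.commutator_mem {T : Type*} [Group T] (h : Shape T) (x y : T) :
    x * y * x⁻¹ * y⁻¹ ∈ Subgroup.center T := by
  have hxy := h.sq_center (x * y⁻¹)
  have hx := h.sq_center x
  have hy := h.sq_center y⁻¹
  have e : x * y * x⁻¹ * y⁻¹ = (x * x) * ((x⁻¹ * y) * (x⁻¹ * y)) * (y⁻¹ * y⁻¹) := by group
  rw [e]
  exact mul_mem (mul_mem hx (h.sq_center _)) hy

/-- The class of a noncentral element is its coset modulo the centre. -/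
theorem Shape.exists_conj {T : Type*} [Group T] [Finite T] (h : Shape T) {s : T}
    (hs : s ∉ Subgroup.center T) {c : T} (hc : c ∈ Subgroup.center T) :
    ∃ w : T, w * s * w⁻¹ = c * s := by
  let f : T ⧸ centralizer ({s} : Set T) → Subgroup.center T :=
    Quotient.lift (fun w => ⟨w * s * w⁻¹ * s⁻¹, h.commutator_mem w s⟩) fun a b hab => by
      have h1 := mem_centralizer_singleton_iff.1 (QuotientGroup.leftRel_apply.1 hab)
      refine Subtype.ext ?_
      show a * s * a⁻¹ * s⁻¹ = b * s * b⁻¹ * s⁻¹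
      have h2 : a⁻¹ * b * s * (a⁻¹ * b)⁻¹ = s := by rw [h1, mul_inv_cancel_right]
      calc a * s * a⁻¹ * s⁻¹ = a * (a⁻¹ * b * s * (a⁻¹ * b)⁻¹) * a⁻¹ * s⁻¹ := by rw [h2]
        _ = b * s * b⁻¹ * s⁻¹ := by group
  have hinj : Function.Injective f := by
    rintro ⟨a⟩ ⟨b⟩ hab
    refine QuotientGroup.eq.2 (mem_centralizer_singleton_iff.2 ?_)
    have h1 : a * s * a⁻¹ = b * s * b⁻¹ := mul_right_cancel (congrArg Subtype.val hab)
    calc a⁻¹ * b * s = a⁻¹ * (b * s * b⁻¹) * b := by group
      _ = a⁻¹ * (a * s * a⁻¹) * b := by rw [h1]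
      _ = s * (a⁻¹ * b) := by group
  have hcard : Nat.card (Subgroup.center T) ≤ Nat.card (T ⧸ centralizer ({s} : Set T)) := by
    have := card_eq_card_quotient_mul_card_subgroup (centralizer ({s} : Set T))
    rw [h.card, h.cent_card s hs] at this
    rw [h.center_card]
    omega
  haveI := Fintype.ofFinite (T ⧸ centralizer ({s} : Set T))
  haveI := Fintype.ofFinite (Subgroup.center T)
  have hbij : Function.Bijective f := (Fintype.bijective_iff_injective_and_card f).2 ⟨hinj, by
    rw [← Nat.card_eq_fintype_card, ← Nat.card_eq_fintype_card]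
    exact le_antisymm (Nat.card_le_card_of_injective f hinj) hcard⟩
  obtain ⟨⟨w⟩, hw⟩ := hbij.2 ⟨c, hc⟩
  exact ⟨w, by rw [← show w * s * w⁻¹ * s⁻¹ = c from congrArg Subtype.val hw, inv_mul_cancel_right]⟩

end Cfsg.Agent.TwoNilCent
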