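import Cfsg.Agent.EqLemmas
import Mathlib

/-!
# Five integer vectors of norm three with scalar products two

`sunflower` : they have the form `ε a δ_a + ε b δ_b + ε c_i δ_{c_i}`.
`orbit_reps` : representatives for a fixed point free map of period three on a finite set.
-/

set_option autoImplicit false

namespace Cfsg.Agent.TwoNilCent

open Finset

variable {ι : Type*} [DecidableEq ι]

theorem entry_cases {B : Finset ι} {v : ι → ℤ} (h : ∑ x ∈ B, v x * v x = 3) {x : ι} (hx : x ∈ B) :
    v x = -1 ∨ v x = 0 ∨ v x = 1 := by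
  have h1 : v x * v x ≤ 3 :=
    h ▸ single_le_sum (f := fun x => v x * v x) (fun j _ => mul_self_nonneg _) hx
  have : -2 < v x ∧ v x < 2 := ⟨by nlinarith, by nlinarith⟩
  omega

theorem card_supp {B : Finset ι} {v : ι → ℤ} (h : ∑ x ∈ B, v x * v x = 3) :
    (B.filter fun x => v x ≠ 0).card = 3 := by
  have h1 : ∀ x ∈ B, v x * v x = if v x ≠ 0 then 1 else 0 := fun x hx => by
    rcases entry_cases h hx with e | e | e <;> rw [e] <;> norm_num
  rw [sum_congr rfl h1, ← sum_filter, sum_const, nsmul_one] at h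
  exact_mod_cast h

theorem exists_eq_triple {s : Finset ι} (hs : s.card = 3) {a b : ι} (hab : a ≠ b) (ha : a ∈ s) (hb : b ∈ s) :
    ∃ c ∈ s, c ≠ a ∧ c ≠ b ∧ s = {a, b, c} := by
  have hsub : ({a, b} : Finset ι) ⊆ s := by simp [insert_subset_iff, ha, hb]
  have h2 : ({a, b} : Finset ι).card = 2 := card_pair hab
  have h : (s \ {a, b}).card = 1 := by rw [card_sdiff_of_subset hsub, hs, h2]
  obtain ⟨c, hc⟩ := card_eq_one.1 h
  have hm : c ∈ s \ {a, b} := hc ▸ mem_singleton_self c
  simp only [mem_sdiff, mem_insert, mem_singleton, not_or] at hm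
  refine ⟨c, hm.1, hm.2.1, hm.2.2, (eq_of_subset_of_card_le ?_ ?_).symm⟩
  · simp [insert_subset_iff, ha, hb, hm.1]
  · rw [hs, card_insert_of_notMem (by simp [hab, Ne.symm hm.2.1]),
      card_pair (Ne.symm hm.2.2)]

/-- Two vectors of norm three with product two share exactly two places, with equal signs. -/
theorem supp_inter {B : Finset ι} {v w : ι → ℤ} (hv : ∑ x ∈ B, v x * v x = 3)
    (hw : ∑ x ∈ B, w x * w x = 3) (hvw : ∑ x ∈ B, v x * w x = 2) :
    ((B.filter fun x => v x ≠ 0) ∩ (B.filter fun x => w x ≠ 0)).card = 2 ∧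
      ∀ x ∈ B, v x ≠ 0 → w x ≠ 0 → v x = w x := by
  set T := (B.filter fun x => v x ≠ 0) ∩ (B.filter fun x => w x ≠ 0) with hT
  have hpm : ∀ x ∈ T, v x * w x = 1 ∨ v x * w x = -1 := fun x hx => by
    simp only [hT, mem_inter, mem_filter] at hx
    rcases entry_cases hv hx.1.1 with e | e | e <;>
      rcases entry_cases hw hx.1.1 with f | f | f <;> simp_all
  have hsum : ∑ x ∈ T, v x * w x = 2 := by
    rw [← hvw]
    refine sum_subset (fun x hx => (mem_filter.1 (mem_inter.1 hx).1).1) fun x hx hn => ?_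
    simp only [hT, mem_inter, mem_filter, hx, true_and, not_and, not_not] at hn
    by_cases e : v x = 0
    · rw [e, zero_mul]
    · rw [hn e, mul_zero]
  have hle : T.card ≤ 3 := (card_le_card inter_subset_left).trans_eq (card_supp hv)
  have hsq : ((T.filter fun x => v x * w x = 1).card : ℤ) - (T.filter fun x => ¬ v x * w x = 1).card = 2 := by
    have h1 : ∀ x ∈ T.filter (fun x => v x * w x = 1), v x * w x = 1 := fun x hx => (mem_filter.1 hx).2
    have h2 : ∀ x ∈ T.filter (fun x => ¬ v x * w x = 1), v x * w x = -1 := fun x hx =>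
      (hpm x (mem_filter.1 hx).1).resolve_left (mem_filter.1 hx).2
    rw [← hsum, ← sum_filter_add_sum_filter_not T (fun x => v x * w x = 1), sum_congr rfl h1,
      sum_congr rfl h2, sum_const, sum_const, nsmul_eq_mul, nsmul_eq_mul, mul_one, mul_neg, mul_one,
      sub_eq_add_neg]
  have hcard := card_filter_add_card_filter_not (s := T) (fun x => v x * w x = 1)
  have hT2 : T.card = 2 ∧ (T.filter fun x => ¬ v x * w x = 1).card = 0 := by omega
  refine ⟨hT2.1, fun x hx hv0 hw0 => ?_⟩
  have hxT : x ∈ T := mem_inter.2 ⟨mem_filter.2 ⟨hx, hv0⟩, mem_filter.2 ⟨hx, hw0⟩⟩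
  have h1 : v x * w x = 1 := by
    by_contra h1
    exact notMem_empty x (card_eq_zero.1 hT2.2 ▸ mem_filter.2 ⟨hxT, h1⟩)
  rcases Int.eq_one_or_neg_one_of_mul_eq_one' h1 with ⟨e, f⟩ | ⟨e, f⟩ <;> rw [e, f]

theorem sub_of_two_common {Si S0 : Finset ι} {a b c0 : ι} (hab : a ≠ b) (hS0 : S0 = {a, b, c0})
    (hc : (Si ∩ S0).card = 2) (hn : ¬ (a ∈ Si ∧ b ∈ Si)) :
    c0 ∈ Si ∧ (a ∈ Si ∨ b ∈ Si) := by
  subst hS0
  obtain ⟨x, y, hxy, he⟩ := card_eq_two.1 hc
  have hx : x ∈ Si ∩ {a, b, c0} := by rw [he]; simp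
  have hy : y ∈ Si ∩ {a, b, c0} := by rw [he]; simp
  simp only [mem_inter, mem_insert, mem_singleton] at hx hy
  rcases hx.2 with ex | ex | ex <;> rcases hy.2 with ey | ey | ey <;> subst ex <;> subst ey <;>
    simp_all

/-- **Sunflower**: five vectors of norm three with mutual products two. -/
theorem sunflower {B : Finset ι} (v : Fin 5 → ι → ℤ) (hn : ∀ i, ∑ x ∈ B, v i x * v i x = 3)
    (hp : ∀ i j, i ≠ j → ∑ x ∈ B, v i x * v j x = 2) :
    ∃ (a b : ι) (c : Fin 5 → ι) (εa εb : ℤ), a ∈ B ∧ b ∈ B ∧ a ≠ b ∧ Function.Injective c ∧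
      (∀ i, c i ∈ B ∧ c i ≠ a ∧ c i ≠ b) ∧ (εa = 1 ∨ εa = -1) ∧ (εb = 1 ∨ εb = -1) ∧
      (∀ i, v i a = εa ∧ v i b = εb ∧ (v i (c i) = 1 ∨ v i (c i) = -1)) ∧
      ∀ i, ∀ x ∈ B, v i x ≠ 0 → x = a ∨ x = b ∨ x = c i := by
  classical
  set S : Fin 5 → Finset ι := fun i => B.filter fun x => v i x ≠ 0 with hS
  have hcS : ∀ i, (S i).card = 3 := fun i => card_supp (hn i)
  have hI : ∀ i j, i ≠ j → (S i ∩ S j).card = 2 := fun i j h => (supp_inter (hn i) (hn j) (hp i j h)).1
  obtain ⟨a, b, hab, h01⟩ := card_eq_two.1 (hI 0 1 (by decide))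
  have ha : a ∈ S 0 ∩ S 1 := by rw [h01]; simp
  have hb : b ∈ S 0 ∩ S 1 := by rw [h01]; simp
  rw [mem_inter] at ha hb
  obtain ⟨c0, hc0, hc0a, hc0b, e0⟩ := exists_eq_triple (hcS 0) hab ha.1 hb.1
  obtain ⟨c1, hc1, hc1a, hc1b, e1⟩ := exists_eq_triple (hcS 1) hab ha.2 hb.2
  have hc01 : c0 ≠ c1 := fun e => by
    have : c0 ∈ S 0 ∩ S 1 := mem_inter.2 ⟨hc0, e ▸ hc1⟩
    rw [h01] at this
    simp [hc0a, hc0b] at this
  have hall : ∀ i, a ∈ S i ∧ b ∈ S i := by
    by_contra hne
    obtain ⟨j, hj⟩ := not_forall.1 hne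
    have hj0 : j ≠ 0 := by rintro rfl; exact hj ⟨ha.1, hb.1⟩
    have hj1 : j ≠ 1 := by rintro rfl; exact hj ⟨ha.2, hb.2⟩
    set U : Finset ι := {a, b, c0, c1} with hU
    have hUc : U.card ≤ 4 := card_le_four
    have hin : ∀ i, S i ⊆ U := by
      intro i
      by_cases hi0 : i = 0
      · rw [hi0, e0]; intro x; simp only [hU, mem_insert, mem_singleton]; tauto
      by_cases hi1 : i = 1
      · rw [hi1, e1]; intro x; simp only [hU, mem_insert, mem_singleton]; tauto
      have key : ∀ k, k ≠ 0 → k ≠ 1 → ¬ (a ∈ S k ∧ b ∈ S k) → S k ⊆ U ∧ c0 ∈ S k ∧ c1 ∈ S k := by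
        intro k hk0 hk1 hk
        obtain ⟨h0, h0'⟩ := sub_of_two_common hab e0 (hI k 0 hk0) hk
        obtain ⟨h1, -⟩ := sub_of_two_common hab e1 (hI k 1 hk1) hk
        refine ⟨?_, h0, h1⟩
        obtain ⟨d, hd, -, -, ed⟩ := exists_eq_triple (hcS k) hc01 h0 h1
        rw [ed]
        rcases h0' with ha' | hb'
        · rw [ed] at ha'
          simp only [mem_insert, mem_singleton, Ne.symm hc0a, Ne.symm hc1a, false_or] at ha'
          subst ha'
          intro x; simp only [hU, mem_insert, mem_singleton]; tauto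
        · rw [ed] at hb'
          simp only [mem_insert, mem_singleton, Ne.symm hc0b, Ne.symm hc1b, false_or] at hb'
          subst hb'
          intro x; simp only [hU, mem_insert, mem_singleton]; tauto
      by_cases hi : a ∈ S i ∧ b ∈ S i
      · obtain ⟨e, he, -, -, ei⟩ := exists_eq_triple (hcS i) hab hi.1 hi.2
        obtain ⟨hjU, hjc0, hjc1⟩ := key j hj0 hj1 hj
        by_contra hout
        have heU : e ∉ U := fun h => hout (by
          rw [ei]
          intro x
          simp only [mem_insert, mem_singleton]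
          rintro (rfl | rfl | rfl) <;> [simp [hU]; simp [hU]; exact h])
        have hle : (S i ∩ S j).card ≤ 1 := by
          refine card_le_one.2 fun x hx y hy => ?_
          have hx' : x = a ∨ x = b := by
            have h' := (mem_inter.1 hx).1
            rw [ei] at h'
            simp only [mem_insert, mem_singleton] at h'
            rcases h' with h' | h' | h'
            exacts [Or.inl h', Or.inr h', absurd (hjU (mem_inter.1 hx).2) (h' ▸ heU)]
          have hy' : y = a ∨ y = b := by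
            have h' := (mem_inter.1 hy).1
            rw [ei] at h'
            simp only [mem_insert, mem_singleton] at h'
            rcases h' with h' | h' | h'
            exacts [Or.inl h', Or.inr h', absurd (hjU (mem_inter.1 hy).2) (h' ▸ heU)]
          rcases hx' with rfl | rfl <;> rcases hy' with rfl | rfl
          · rfl
          · exact absurd ⟨(mem_inter.1 hx).2, (mem_inter.1 hy).2⟩ hj
          · exact absurd ⟨(mem_inter.1 hy).2, (mem_inter.1 hx).2⟩ hj
          · rfl
        have := hI i j (fun h => hj (h ▸ hi))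
        omega
      · exact (key i hi0 hi1 hi).1
    have hinj : Function.Injective S := fun i k h => by
      by_contra hik
      have := hI i k hik
      rw [h, inter_self, hcS] at this
      omega
    have hcount : (univ.image S).card ≤ (U.powersetCard 3).card := card_le_card fun x hx => by
      obtain ⟨i, -, rfl⟩ := mem_image.1 hx
      exact mem_powersetCard.2 ⟨hin i, hcS i⟩
    rw [card_image_of_injective _ hinj, card_univ, Fintype.card_fin, card_powersetCard] at hcount
    have : U.card.choose 3 ≤ Nat.choose 4 3 := Nat.choose_le_choose 3 hUc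
    rw [show Nat.choose 4 3 = 4 from by decide] at this
    omega
  have hex : ∀ i, ∃ c, c ∈ S i ∧ c ≠ a ∧ c ≠ b ∧ S i = {a, b, c} := fun i =>
    let ⟨c, h1, h2, h3, h4⟩ := exists_eq_triple (hcS i) hab (hall i).1 (hall i).2
    ⟨c, h1, h2, h3, h4⟩
  choose c hcm hca hcb hce using hex
  have haB : a ∈ B := (mem_filter.1 (hall 0).1).1
  have hbB : b ∈ B := (mem_filter.1 (hall 0).2).1
  have hsgn : ∀ i, v i a = v 0 a ∧ v i b = v 0 b := fun i => by
    by_cases hi : i = 0
    · subst hi; exact ⟨rfl, rfl⟩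
    · have h := (supp_inter (hn i) (hn 0) (hp i 0 hi)).2
      exact ⟨h a haB (mem_filter.1 (hall i).1).2 (mem_filter.1 (hall 0).1).2,
        h b hbB (mem_filter.1 (hall i).2).2 (mem_filter.1 (hall 0).2).2⟩
  have hpm : ∀ i, ∀ x ∈ S i, v i x = 1 ∨ v i x = -1 := fun i x hx => by
    obtain ⟨hxB, hx0⟩ := mem_filter.1 hx
    rcases entry_cases (hn i) hxB with e | e | e
    exacts [Or.inr e, absurd e hx0, Or.inl e]
  refine ⟨a, b, c, v 0 a, v 0 b, haB, hbB, hab, fun i k h => ?_,
    fun i => ⟨(mem_filter.1 (hcm i)).1, hca i, hcb i⟩, hpm 0 a (hall 0).1, hpm 0 b (hall 0).2,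
    fun i => ⟨(hsgn i).1, (hsgn i).2, hpm i _ (hcm i)⟩, fun i x hx h0 => ?_⟩
  · by_contra hik
    have := hI i k hik
    rw [hce i, hce k, h, inter_self, ← hce k, hcS] at this
    omega
  · have : x ∈ S i := mem_filter.2 ⟨hx, h0⟩
    rw [hce i] at this
    simpa using this

/-- Representatives for the orbits of a fixed point free map of period three. -/
theorem orbit_reps {α : Type*} [DecidableEq α] (τ : α → α) (h3 : ∀ x, τ (τ (τ x)) = x) :
    ∀ (n : ℕ) (s : Finset α), s.card = 3 * n → (∀ x ∈ s, τ x ∈ s ∧ τ x ≠ x) →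
      ∃ r : Fin n → α, (∀ i, r i ∈ s) ∧
        (∀ i j, i ≠ j → r i ≠ r j ∧ r i ≠ τ (r j) ∧ r i ≠ τ (τ (r j))) ∧
        ∀ f : α → ℤ, (∀ x ∈ s, f (τ x) = f x) → ∑ x ∈ s, f x = 3 * ∑ i, f (r i) := by
  intro n
  induction n with
  | zero =>
    intro s hs _
    rw [mul_zero, card_eq_zero] at hs
    exact ⟨Fin.elim0, fun i => i.elim0, fun i => i.elim0, fun f _ => by simp [hs]⟩
  | succ n ih =>
    intro s hs hτ
    obtain ⟨x, hx⟩ := card_pos.1 (show 0 < s.card by omega)
    have h1 := hτ x hx
    have h2 := hτ _ h1.1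
    have hne : x ≠ τ (τ x) := fun e => by
      have e' := congrArg τ e
      rw [h3] at e'
      exact h1.2 e'
    have hsub : ({x, τ x, τ (τ x)} : Finset α) ⊆ s := by simp [insert_subset_iff, hx, h1.1, h2.1]
    have hc : ({x, τ x, τ (τ x)} : Finset α).card = 3 := by
      rw [card_insert_of_notMem (by simp [Ne.symm h1.2, hne]), card_pair (Ne.symm h2.2)]
    set t := s \ {x, τ x, τ (τ x)} with ht
    obtain ⟨r, hr, hr2, hr3⟩ := ih t (by rw [ht, card_sdiff_of_subset hsub, hc, hs]; omega) fun y hy => by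
      obtain ⟨hys, hy'⟩ := mem_sdiff.1 hy
      simp only [mem_insert, mem_singleton, not_or] at hy'
      refine ⟨mem_sdiff.2 ⟨(hτ y hys).1, ?_⟩, (hτ y hys).2⟩
      simp only [mem_insert, mem_singleton, not_or]
      refine ⟨fun e => hy'.2.2 ?_, fun e => hy'.1 ?_, fun e => hy'.2.1 ?_⟩
      · rw [← e, h3]
      · have := congrArg (fun z => τ (τ z)) e
        simp only [h3] at this
        exact this
      · have := congrArg (fun z => τ (τ z)) e
        simp only [h3] at this
        exact this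
    have hmem : ∀ i, r i ∈ s ∧ r i ≠ x ∧ r i ≠ τ x ∧ r i ≠ τ (τ x) := fun i => by
      have := hr i
      simp only [ht, mem_sdiff, mem_insert, mem_singleton, not_or] at this
      exact ⟨this.1, this.2.1, this.2.2.1, this.2.2.2⟩
    refine ⟨Fin.cons x r, fun i => ?_, fun i j hij => ?_, fun f hf => ?_⟩
    · induction i using Fin.cases with
      | zero => simpa using hx
      | succ i => simpa using (hmem i).1
    · induction i using Fin.cases with
      | zero =>
        induction j using Fin.cases with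
        | zero => exact absurd rfl hij
        | succ j =>
          simp only [Fin.cons_zero, Fin.cons_succ]
          refine ⟨(hmem j).2.1.symm, fun e => (hmem j).2.2.2 ?_, fun e => (hmem j).2.2.1 ?_⟩
          · rw [e, h3]
          · rw [e, h3]
      | succ i =>
        induction j using Fin.cases with
        | zero => simpa using (hmem i).2
        | succ j => simpa using hr2 i j fun e => hij (by rw [e])
    · rw [← sum_sdiff hsub, ← ht, hr3 f (fun y hy => hf y (mem_sdiff.1 hy).1), Fin.sum_univ_succ,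
        sum_insert (by simp [Ne.symm h1.2, hne]), sum_pair (Ne.symm h2.2), hf x hx, hf _ h1.1, hf x hx]
      simp only [Fin.cons_zero, Fin.cons_succ]
      ring

end Cfsg.Agent.TwoNilCent
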