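import Cfsg.Agent.Lib.TwoNilCent.Congr
import Cfsg.Agent.Lib.TwoNilCent.Vectors
import Cfsg.Agent.Lib.CentralChar.Fixed
import Cfsg.Agent.Lib.PairsRegular.Count

/-!
# No simple `TwoNil` group has a Sylow 2-subgroup of the shape of that of `PSU 3 F 4`

`false_of_shape` : the exceptional characters of the principal block would have degrees at least 13
and values at the involutions with squares summing to at most 11, against the class equation.
-/

set_option autoImplicit false
set_option linter.style.haveILetI false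

open scoped ComplexConjugate

namespace Cfsg.Agent.TwoNilCent

open Subgroup Cfsg Blocks SecondMain

theorem weights_bound {ua ub u : ℤ} (ha : ua % 4 = 3) (hb : ub % 4 = 3) (hu : u % 4 = 3)
    (h1 : ua + ub + u = 1) (h2 : 1 + ua * ua + ub * ub + 5 * (u * u) ≤ 64) :
    ua * ua + ub * ub + u * u ≤ 11 := by
  have hu1 : -4 < u ∧ u < 4 := ⟨by nlinarith, by nlinarith⟩
  have ha1 : -8 < ua ∧ ua < 8 := ⟨by nlinarith, by nlinarith⟩
  have hua : ua = -5 ∨ ua = -1 ∨ ua = 3 ∨ ua = 7 := by omega
  have huu : u = -1 ∨ u = 3 := by omega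
  have hub : ub = 1 - ua - u := by omega
  subst hub
  rcases hua with rfl | rfl | rfl | rfl <;> rcases huu with rfl | rfl <;> simp_all

/-- Three quotients `c²/d` with large `d` and small squares cannot add up to one. -/
theorem no_equation {ea eb ei ca cb ci da db di : ℤ} (hea : ea = 1 ∨ ea = -1) (heb : eb = 1 ∨ eb = -1)
    (hei : ei = 1 ∨ ei = -1) (hda : 13 ≤ da) (hdb : 13 ≤ db) (hdi : 13 ≤ di)
    (hsq : ca * ca + cb * cb + ci * ci ≤ 11)
    (h : ea * (ca * ca) * (db * di) + eb * (cb * cb) * (da * di) + ei * (ci * ci) * (da * db) =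
      da * db * di) : False := by
  have h1 : ea * (ca * ca) ≤ ca * ca := by rcases hea with rfl | rfl <;> nlinarith [mul_self_nonneg ca]
  have h2 : eb * (cb * cb) ≤ cb * cb := by rcases heb with rfl | rfl <;> nlinarith [mul_self_nonneg cb]
  have h3 : ei * (ci * ci) ≤ ci * ci := by rcases hei with rfl | rfl <;> nlinarith [mul_self_nonneg ci]
  have hpa : 0 ≤ db * di := by positivity
  have hpb : 0 ≤ da * di := by positivity
  have hpi : 0 ≤ da * db := by positivity
  have a1 := mul_le_mul_of_nonneg_right h1 hpa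
  have a2 := mul_le_mul_of_nonneg_right h2 hpb
  have a3 := mul_le_mul_of_nonneg_right h3 hpi
  have b1 : 13 * (ca * ca * (db * di)) ≤ ca * ca * (da * db * di) := by
    nlinarith [mul_nonneg (mul_nonneg (mul_self_nonneg ca) hpa) (sub_nonneg.2 hda)]
  have b2 : 13 * (cb * cb * (da * di)) ≤ cb * cb * (da * db * di) := by
    nlinarith [mul_nonneg (mul_nonneg (mul_self_nonneg cb) hpb) (sub_nonneg.2 hdb)]
  have b3 : 13 * (ci * ci * (da * db)) ≤ ci * ci * (da * db * di) := by
    nlinarith [mul_nonneg (mul_nonneg (mul_self_nonneg ci) hpi) (sub_nonneg.2 hdi)]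
  have hP : 0 < da * db * di := by positivity
  have b4 := mul_le_mul_of_nonneg_right hsq hP.le
  nlinarith

variable {G : Type*} [Group G] [Finite G]

theorem false_of_shape [IsSimpleGroup G] (hG : ¬ IsMulCommutative G) (h : TwoNil G) (S : Sylow 2 G)
    (hS : Shape (S : Subgroup G)) : False := by
  classical
  haveI := Fact.mk Nat.prime_two
  obtain ⟨M, hM⟩ := CentralChar.exists_pModular 2
  obtain ⟨σ, hσ⟩ := exists_twist hG h hS
  haveI := Fintype.ofFinite G
  haveI := Fintype.ofFinite (S : Subgroup G)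
  letI := quotCommGroup hS
  haveI := Finite.of_surjective (qmk S) (QuotientGroup.mk'_surjective _)
  haveI : Finite (SQ S →* ℂˣ) := Nat.finite_of_card_ne_zero (by rw [card_dual, card_quot hS]; norm_num)
  haveI := Fintype.ofFinite (SQ S →* ℂˣ)
  choose k hk using fun (l : SQ S →* ℂˣ) (χ : IrrCharacter G) => exists_int_kC hS l χ
  -- a central involution
  obtain ⟨s₀, hs₀⟩ := hS.exists_noncentral
  set z₀ : (S : Subgroup G) := s₀ * s₀ with hz₀
  have hz₀c : z₀ ∈ Subgroup.center (S : Subgroup G) := hS.sq_center s₀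
  have hz₀1 : z₀ ≠ 1 := fun e => hs₀ ((hS.inv_iff s₀).1 e)
  set t : G := (z₀ : G) with ht
  have hto : orderOf t = 2 := hS.orderOf_center hz₀c hz₀1
  have htt : t * t = 1 := by
    have := pow_orderOf_eq_one t
    rwa [hto, pow_two] at this
  choose c hc using fun χ : IrrCharacter G => exists_int_involution hto χ
  have hcz : ∀ (χ : IrrCharacter G) (z : (S : Subgroup G)), z ∈ Subgroup.center (S : Subgroup G) → z ≠ 1 →
      (χ : G → ℂ) (z : G) = (c χ : ℂ) := fun χ z hz hz1 => by
    rw [← hc, ClassCount.class_apply (Char.IsIrrCharacter.isClassFunction χ.2)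
      (hσ.isConj_involution hS hz₀c hz₀1 (hS.orderOf_center hz hz1))]
  set d : IrrCharacter G → ℕ := fun χ => charDegree (χ : G → ℂ) with hd
  have hd1 : ∀ χ : IrrCharacter G, (χ : G → ℂ) 1 = (d χ : ℂ) := ClassCount.apply_one_eq_charDegree
  have hd0 : ∀ χ : IrrCharacter G, (d χ : ℂ) ≠ 0 := fun χ => by
    rw [← hd1]; exact Char.IsIrrCharacter.apply_one_ne_zero χ.2
  -- representatives
  have hlcard : ((Finset.univ : Finset (SQ S →* ℂˣ)).erase 1).card = 3 * 5 := by
    rw [Finset.card_erase_of_mem (Finset.mem_univ _), Finset.card_univ, ← Nat.card_eq_fintype_card,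
      card_dual, card_quot hS]
  obtain ⟨r, hr, hrne, hrsum⟩ := orbit_reps (dualTau hS σ) (dualTau_cube hS hσ) 5
    ((Finset.univ : Finset (SQ S →* ℂˣ)).erase 1) hlcard fun l hl => by
      have hl1 : l ≠ 1 := Finset.ne_of_mem_erase hl
      exact ⟨Finset.mem_erase.2 ⟨fun e => hl1 (dualTau_eq_one hS hσ e), Finset.mem_univ _⟩,
        fun e => hl1 (dualTau_fpf hS hσ e)⟩
  have hr1 : ∀ i, r i ≠ 1 := fun i => Finset.ne_of_mem_erase (hr i)
  -- the principal character
  set one : IrrCharacter G := BrauerPairs.oneIrr G with hone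
  set B : Finset (IrrCharacter G) := (bSet M G).erase one with hB
  have honeB : one ∈ bSet M G := mem_bSet.2 (BrauerPairs.oneIrr_mem_principal hM)
  have hsplit : ∀ f : IrrCharacter G → ℤ, ∑ χ ∈ bSet M G, f χ = f one + ∑ χ ∈ B, f χ := fun f =>
    (Finset.add_sum_erase _ f honeB).symm
  have hk1 : ∀ l : SQ S →* ℂˣ, l ≠ 1 → k l one = -1 := by
    intro l hl
    have e : kC l ((one : IrrCharacter G) : G → ℂ) = -1 := by
      haveI := Fintype.ofFinite (SQ S)
      show (64 : ℂ)⁻¹ * ∑ s : (S : Subgroup G), (1 : ℂ) * (((l (qmk S s) : ℂˣ) : ℂ) - 1) = -1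
      simp only [one_mul]
      rw [sum_fiber hS (fun q => ((l q : ℂˣ) : ℂ) - 1), Finset.sum_sub_distrib, sum_hom_eq_zero hl,
        Finset.sum_const, Finset.card_univ, ← Nat.card_eq_fintype_card, card_quot hS]
      norm_num
    rw [hk] at e
    exact_mod_cast e
  have hc1 : c one = 1 := by
    have := hc one
    rw [show ((one : IrrCharacter G) : G → ℂ) t = 1 from rfl] at this
    exact_mod_cast this.symm
  -- the Gram matrix
  have hgram : ∀ i j, ∑ χ ∈ B, k (r i) χ * k (r j) χ = if i = j then 3 else 2 := by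
    intro i j
    have e := sum_kC_mul hM h hS hσ (hr1 i) (hr1 j)
    simp only [hk] at e
    have h4 : ((if r i = r j then (1 : ℂ) else 0) + (if r i = dualTau hS σ (r j) then 1 else 0) +
        (if r i = dualTau hS σ (dualTau hS σ (r j)) then 1 else 0)) = if i = j then 1 else 0 := by
      by_cases hij : i = j
      · subst hij
        have n1 : r i ≠ dualTau hS σ (r i) := fun e => hr1 i (dualTau_fpf hS hσ e.symm)
        have n2 : r i ≠ dualTau hS σ (dualTau hS σ (r i)) := fun e => n1 (by
          have := congrArg (dualTau hS σ) e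
          rw [dualTau_cube hS hσ] at this
          exact this.symm)
        rw [if_pos rfl, if_neg n1, if_neg n2, if_pos rfl]
        norm_num
      · obtain ⟨n0, n1, n2⟩ := hrne i j hij
        rw [if_neg n0, if_neg n1, if_neg n2, if_neg hij]
        norm_num
    rw [h4] at e
    have e' : ∑ χ ∈ bSet M G, k (r i) χ * k (r j) χ = 3 + if i = j then 1 else 0 := by
      split_ifs at e ⊢ <;> exact_mod_cast e
    rw [hsplit, hk1 _ (hr1 i), hk1 _ (hr1 j)] at e'
    split_ifs at e' ⊢ <;> omega
  obtain ⟨a, b, w, εa, εb, haB, hbB, hab, hwinj, hw, hεa, hεb, hval, hsupp⟩ :=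
    sunflower (B := B) (fun i χ => k (r i) χ) (fun i => (hgram i i).trans (if_pos rfl))
      (fun i j hij => (hgram i j).trans (if_neg hij))
  have hpick : ∀ i (f : IrrCharacter G → ℂ), ∑ χ ∈ B, (k (r i) χ : ℂ) * f χ =
      (εa : ℂ) * f a + (εb : ℂ) * f b + (k (r i) (w i) : ℂ) * f (w i) := by
    intro i f
    rw [← Finset.sum_subset (s₁ := {a, b, w i})
      (by simp [Finset.insert_subset_iff, haB, hbB, (hw i).1]) (fun x hx hn => by
        have : k (r i) x = 0 := by
          by_contra h0
          rcases hsupp i x hx h0 with rfl | rfl | rfl <;> simp at hn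
        rw [this, Int.cast_zero, zero_mul])]
    rw [Finset.sum_insert (by simp [hab, Ne.symm (hw i).2.1]), Finset.sum_pair (Ne.symm (hw i).2.2),
      (hval i).1, (hval i).2.1]
    ring
  -- orthogonality with the involutions
  have horth : ∀ i, (εa * c a + εb * c b + k (r i) (w i) * c (w i) : ℤ) = 1 := by
    intro i
    have e := sum_kC_eq_zero (M := M) (r i) (g := t) fun s hs => by
      refine colSum_nonconj hM ⟨2, by rw [hS.orderOf_noncentral hs]; norm_num⟩
        ⟨1, by rw [hto, pow_one]⟩ fun e => ?_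
      obtain ⟨g, hg⟩ := isConj_iff.1 e
      have := SecondMain.orderOf_conj g (s : G)
      rw [hg, hto, hS.orderOf_noncentral hs] at this
      omega
    simp only [hk, hc, map_intCast] at e
    rw [← Finset.add_sum_erase _ _ honeB, hk1 _ (hr1 i), hc1, ← hB, hpick i (fun χ => (c χ : ℂ))] at e
    push_cast at e
    exact_mod_cast (show ((εa : ℂ) * c a + εb * c b + (k (r i) (w i) : ℂ) * c (w i)) = 1 by
      linear_combination e)
  -- congruences
  have hmod : ∀ χ : IrrCharacter G, ∃ n x : ℤ, (d χ : ℤ) - c χ = 16 * n ∧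
      (d χ : ℤ) + 3 * c χ = 4 * (3 * ∑ i, k (r i) χ) + 64 * x := by
    intro χ
    obtain ⟨n, hn⟩ := degree_sub hS χ (hcz χ)
    obtain ⟨x, hx⟩ := degree_add hS χ (hcz χ)
    refine ⟨n, x, ?_, ?_⟩
    · rw [hd1] at hn
      exact_mod_cast hn
    · rw [← hrsum (fun l => k l χ) fun l _ => by
        have := hk (dualTau hS σ l) χ
        rw [kC_dualTau hS hσ l (Char.IsIrrCharacter.isClassFunction χ.2), hk] at this
        exact_mod_cast this.symm]
      rw [hd1] at hx
      simp only [hk] at hx
      exact_mod_cast hx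
  have hua : (εa * c a) % 4 = 3 := by
    obtain ⟨n, x, h1, h2⟩ := hmod a
    rw [Finset.sum_congr rfl fun i _ => (hval i).1] at h2
    simp only [Finset.sum_const, Finset.card_univ, Fintype.card_fin, nsmul_eq_mul, Nat.cast_ofNat] at h2
    rcases hεa with e | e <;> subst e <;> omega
  have hub : (εb * c b) % 4 = 3 := by
    obtain ⟨n, x, h1, h2⟩ := hmod b
    rw [Finset.sum_congr rfl fun i _ => (hval i).2.1] at h2
    simp only [Finset.sum_const, Finset.card_univ, Fintype.card_fin, nsmul_eq_mul, Nat.cast_ofNat] at h2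
    rcases hεb with e | e <;> subst e <;> omega
  have hui : ∀ i, (k (r i) (w i) * c (w i)) % 4 = 3 := by
    intro i
    obtain ⟨n, x, h1, h2⟩ := hmod (w i)
    rw [Finset.sum_eq_single i (fun j _ hj => by
      by_contra h0
      rcases hsupp j _ (hw i).1 h0 with e | e | e
      exacts [(hw i).2.1 e, (hw i).2.2 e, hj (hwinj e).symm]) (fun h' => absurd (Finset.mem_univ i) h')] at h2
    rcases (hval i).2.2 with e | e <;> rw [e] at h2 ⊢ <;> omega
  -- squares
  have hsqsum : 1 + c a * c a + c b * c b + ∑ i, c (w i) * c (w i) ≤ 64 := by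
    have e := colSum_centre hM h hS hz₀c hz₀1
    rw [colSum_bSet] at e
    simp only [← ht, hc, map_intCast] at e
    have e' : ∑ χ ∈ bSet M G, c χ * c χ = 64 := by exact_mod_cast e
    rw [hsplit, hc1] at e'
    have hab' : a ∉ Finset.univ.image w := by simp [fun i => (hw i).2.1]
    have hb' : b ∉ Finset.univ.image w := by simp [fun i => (hw i).2.2]
    have hsub : insert a (insert b (Finset.univ.image w)) ⊆ B := by
      simp only [Finset.insert_subset_iff, haB, hbB, true_and]
      exact Finset.image_subset_iff.2 fun i _ => (hw i).1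
    have := Finset.sum_le_sum_of_subset_of_nonneg (f := fun χ => c χ * c χ) hsub
      (fun χ _ _ => mul_self_nonneg _)
    rw [Finset.sum_insert (by simp [hab, fun i => (hw i).2.1]), Finset.sum_insert hb',
      Finset.sum_image (fun i _ j _ e => hwinj e)] at this
    omega
  have hs11 : c a * c a + c b * c b + c (w 0) * c (w 0) ≤ 11 := by
    have hall : ∀ i, c (w i) * c (w i) = c (w 0) * c (w 0) := fun i => by
      have e0 := horth 0
      have ei := horth i
      have e : k (r i) (w i) * c (w i) = k (r 0) (w 0) * c (w 0) := by omega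
      have e' := congrArg (fun x : ℤ => x * x) e
      rcases (hval i).2.2 with e1 | e1 <;> rcases (hval 0).2.2 with e2 | e2 <;>
        (simp only [e1, e2] at e'; linarith)
    rw [Finset.sum_congr rfl fun i _ => hall i] at hsqsum
    simp only [Finset.sum_const, Finset.card_univ, Fintype.card_fin, nsmul_eq_mul, Nat.cast_ofNat] at hsqsum
    have hsq : ∀ {ε x : ℤ}, (ε = 1 ∨ ε = -1) → ε * x * (ε * x) = x * x := by
      rintro ε x (rfl | rfl) <;> ring
    have := weights_bound hua hub (hui 0) (horth 0)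
      (by rw [hsq hεa, hsq hεb, hsq (hval 0).2.2]; exact hsqsum)
    rwa [hsq hεa, hsq hεb, hsq (hval 0).2.2] at this
  -- degrees
  have hdeg : ∀ χ ∈ B, c χ * c χ ≤ 11 → (13 : ℤ) ≤ d χ := by
    intro χ hχ hsq
    obtain ⟨n, x, h1, -⟩ := hmod χ
    have hne : (d χ : ℤ) ≠ c χ := fun e => by
      refine hz₀1 (Subtype.ext (PairsRegular.eq_one_of_apply_eq_degree (Finset.ne_of_mem_erase hχ)
        (x := t) ?_))
      rw [hc, hd1]
      exact_mod_cast e.symm
    have hb : -4 < c χ ∧ c χ < 4 := ⟨by nlinarith, by nlinarith⟩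
    omega
  -- the class equation
  have hN : (Nat.card {g : G // IsConj t g} : ℂ) ≠ 0 := by
    haveI : Nonempty {g : G // IsConj t g} := ⟨⟨t, IsConj.refl t⟩⟩
    exact_mod_cast Nat.card_pos.ne'
  have hclass : ∀ i, ∑ χ ∈ bSet M G, (k (r i) χ : ℂ) * ((c χ : ℂ) * c χ / d χ) = 0 := by
    intro i
    have hF : ∀ χ : IrrCharacter G, ∑ g ∈ Finset.univ.filter (fun g => IsConj t g),
        conj ((χ : G → ℂ) (g * t)) =
          (Nat.card {g : G // IsConj t g} : ℂ) * ((c χ : ℂ) * c χ / d χ) := by
      intro χ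
      rw [← map_sum, ClassCount.sum_class_apply_mul χ.2 t t, ClassCount.omega, hc, hd1, map_mul,
        map_div₀, map_mul, map_natCast, map_intCast, map_natCast]
      ring
    refine mul_left_cancel₀ hN ?_
    rw [mul_zero, Finset.mul_sum]
    calc ∑ χ ∈ bSet M G, (Nat.card {g : G // IsConj t g} : ℂ) *
          ((k (r i) χ : ℂ) * ((c χ : ℂ) * c χ / d χ))
        = ∑ χ ∈ bSet M G, kC (r i) (χ : G → ℂ) *
            ∑ g ∈ Finset.univ.filter (fun g => IsConj t g), conj ((χ : G → ℂ) (g * t)) := by
          refine Finset.sum_congr rfl fun χ _ => ?_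
          rw [hF, hk]
          ring
      _ = 0 := by
          simp only [Finset.mul_sum]
          rw [Finset.sum_comm]
          refine Finset.sum_eq_zero fun g hg => ?_
          obtain ⟨x, hx⟩ := isConj_iff.1 (Finset.mem_filter.1 hg).2
          exact sum_kC_eq_zero (r i) fun s hs => colSum_mul_involutions hM h hS hs
            (by rw [← hx, show x * t * x⁻¹ * (x * t * x⁻¹) = x * (t * t) * x⁻¹ by group, htt, mul_one,
              mul_inv_cancel]) htt
  have e := hclass 0
  have hd1' : (d one : ℂ) = 1 := by rw [← hd1]; rfl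
  rw [← Finset.add_sum_erase _ _ honeB, hk1 _ (hr1 0), hc1, hd1', ← hB,
    hpick 0 (fun χ => (c χ : ℂ) * c χ / d χ)] at e
  push_cast at e
  have hda := hd0 a
  have hdb := hd0 b
  have hdw := hd0 (w 0)
  have e' : (εa : ℂ) * ((c a : ℂ) * c a) * ((d b : ℂ) * d (w 0)) +
      εb * ((c b : ℂ) * c b) * ((d a : ℂ) * d (w 0)) +
      (k (r 0) (w 0) : ℂ) * ((c (w 0) : ℂ) * c (w 0)) * ((d a : ℂ) * d b) =
      (d a : ℂ) * d b * d (w 0) := by
    field_simp at e
    linear_combination e
  have ha2 := mul_self_nonneg (c a)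
  have hb2 := mul_self_nonneg (c b)
  have hw2 := mul_self_nonneg (c (w 0))
  exact no_equation hεa hεb (hval 0).2.2 (hdeg a haB (by linarith)) (hdeg b hbB (by linarith))
    (hdeg _ (hw 0).1 (by linarith)) hs11 (by exact_mod_cast e')

end Cfsg.Agent.TwoNilCent
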