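import Cfsg.Agent.EqLemmas
import Cfsg.Agent.S1221
import Cfsg.Agent.Lib.NonComponent.AnySylow
import Cfsg.Agent.Lib.CITClass.Main
import Cfsg.Agent.Lib.RankOneSylow.Basic
import Cfsg.Agent.Lib.ThreeOrders.Basic
import Cfsg.Agent.Lib.PLocal.PComplement

/-!
# Simple groups whose involution centralisers have normal 2-complements

Hypothesis `TwoNil G`: every involution centraliser has a normal 2-complement.

* `TwoNil.centralizes` : odd elements normalising a 2-subgroup and fixing an involution centralising it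
  centralise it;
* `TwoNil.isPGroup_centralizer_of_rank` : with 2-rank at least three the group is a CIT-group.
-/

set_option autoImplicit false
set_option linter.style.haveILetI false

namespace Cfsg.Agent.TwoNilCent

open Subgroup

variable {G : Type*} [Group G] [Finite G]

/-- Every involution centraliser has a normal 2-complement. -/
def TwoNil (G : Type*) [Group G] : Prop :=
  ∀ t : G, orderOf t = 2 → Cfsg.HasNormalPComplement 2 ↥(centralizer ({t} : Set G))

/-- In a group with a normal 2-complement an element of odd order normalising a 2-subgroup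
centralises it. -/
theorem centralizes_of_complement {C : Subgroup G} (h : Cfsg.HasNormalPComplement 2 C) {R : Subgroup G}
    (hR : IsPGroup 2 R) (hRC : R ≤ C) {y : G} (hyC : y ∈ C) (hy : y ∈ normalizer (R : Set G))
    (hco : Nat.Coprime (orderOf y) 2) : y ∈ centralizer (R : Set G) := by
  haveI := Fact.mk Nat.prime_two
  haveI : (pResidual 2 C).Normal := Transfer.pResidual_normal
  have hyk : (⟨y, hyC⟩ : C) ∈ pResidual 2 C :=
    (Transfer.mem_pResidual_iff h _).2 (by rwa [Subgroup.orderOf_mk])
  refine mem_centralizer_iff.2 fun r hr => ?_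
  let c : C := ⟨y, hyC⟩ * ⟨r, hRC hr⟩ * (⟨y, hyC⟩ : C)⁻¹ * (⟨r, hRC hr⟩ : C)⁻¹
  have hcK : c ∈ pResidual 2 C := by
    have h1 := (inferInstance : (pResidual 2 C).Normal).conj_mem _ (inv_mem hyk) ⟨r, hRC hr⟩
    have h2 := mul_mem hyk h1
    convert h2 using 1
    simp only [c, inv_inv]
    group
  have hcR : (c : G) ∈ R := mul_mem ((mem_normalizer_iff.1 hy r).1 hr) (inv_mem hr)
  obtain ⟨k, hk⟩ := hR ⟨(c : G), hcR⟩
  have hc1 : (c : G) ^ 2 ^ k = 1 := congrArg Subtype.val hk
  have hco2 := (Transfer.mem_pResidual_iff h _).1 hcK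
  rw [← Subgroup.orderOf_coe] at hco2
  have hd := orderOf_dvd_of_pow_eq_one hc1
  have hone : orderOf (c : G) = 1 :=
    Nat.Coprime.eq_one_of_dvd (hco2.pow_right k) hd
  have he : y * r * y⁻¹ * r⁻¹ = 1 := orderOf_eq_one_iff.1 hone
  exact (mul_inv_eq_iff_eq_mul.1 (mul_inv_eq_one.1 he)).symm

theorem TwoNil.centralizes (h : TwoNil G) {z : G} (hz : orderOf z = 2) {R : Subgroup G}
    (hR : IsPGroup 2 R) (hRz : ∀ r ∈ R, r * z = z * r) {y : G} (hyz : y * z = z * y)
    (hy : y ∈ normalizer (R : Set G)) (hco : Nat.Coprime (orderOf y) 2) :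
    y ∈ centralizer (R : Set G) :=
  centralizes_of_complement (h z hz) hR (fun r hr => mem_centralizer_singleton_iff.2 (hRz r hr))
    (mem_centralizer_singleton_iff.2 hyz) hy hco

theorem TwoNil.isSolvable (h : TwoNil G) {t : G} (ht : orderOf t = 2) :
    Group.IsSolvable ↥(centralizer ({t} : Set G)) :=
  ThreeOrders.isSolvable_of_complement (h t ht)

/-- If the cores are trivial the centralisers are 2-groups. -/
theorem TwoNil.isPGroup_of_core (h : TwoNil G) {t : G} (ht : orderOf t = 2)
    (hc : Cfsg.centralizerPPrimeCore 2 t = ⊥) : IsPGroup 2 ↥(centralizer ({t} : Set G)) := by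
  haveI := Fact.mk Nat.prime_two
  obtain ⟨S⟩ : Nonempty (Sylow 2 ↥(centralizer ({t} : Set G))) := inferInstance
  have h1 := RankOneSylow.sup_eq_top_of_complement S (h t ht)
  have h2 : Cfsg.pPrimeCore 2 ↥(centralizer ({t} : Set G)) = ⊥ :=
    (map_eq_bot_iff_of_injective _ (centralizer ({t} : Set G)).subtype_injective).1 hc
  rw [h2, sup_bot_eq] at h1
  exact S.2.of_equiv ((MulEquiv.subgroupCongr h1).trans topEquiv)

/-- With 2-rank at least three a simple such group is a CIT-group. -/
theorem TwoNil.isPGroup_centralizer_of_rank [IsSimpleGroup G] (hG : ¬ IsMulCommutative G)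
    (h : TwoNil G) (h3 : ¬ Cfsg.PRankLE 2 2 G) {t : G} (ht : orderOf t = 2) :
    IsPGroup 2 ↥(centralizer ({t} : Set G)) := by
  haveI := Fact.mk Nat.prime_two
  refine h.isPGroup_of_core ht ?_
  have hO : Cfsg.oddCore G = ⊥ :=
    (Cores.pPrimeCore_normal 2 G).eq_bot_or_eq_top.resolve_right fun e => by
      have h1 : ¬ 2 ∣ Nat.card (Cfsg.pPrimeCore 2 G) := Cores.not_dvd_card_pPrimeCore
      change Cfsg.pPrimeCore 2 G = ⊤ at e
      rw [e, card_top] at h1
      exact h1 (ht ▸ orderOf_dvd_natCard t)
  refine NonComponent.core_eq_bot_of_no_index_two (fun H hH => S1221.result H hH) hO (fun N hN h2 => ?_)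
    h3 (fun s hs => ?_) t ht
  · rcases hN.eq_bot_or_eq_top with e | e
    · rw [e, index_bot] at h2
      haveI : IsCyclic G := isCyclic_of_prime_card h2
      exact hG ⟨⟨fun a b => by
        letI := IsCyclic.commGroup (α := G)
        exact mul_comm a b⟩⟩
    · rw [e, index_top] at h2
      exact absurd h2 (by norm_num)
  · haveI := h.isSolvable hs
    exact HallHigman.isPConstrained_of_isSolvable

end Cfsg.Agent.TwoNilCent
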