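import Cfsg.Agent.Lib.TwoNilCent.UFourChar

/-!
# Congruences between degrees and values at involutions

`degree_sub`: `χ 1 ≡ χ z (mod 16)`; `degree_add`: `χ 1 + 3 χ z` is `4 ∑ kC l χ` modulo 64.
-/

set_option autoImplicit false
set_option linter.style.haveILetI false

open scoped ComplexConjugate

namespace Cfsg.Agent.TwoNilCent

open Subgroup Cfsg Blocks SecondMain

variable {G : Type*} [Group G] [Finite G] {S : Sylow 2 G}

omit [Finite G] in
theorem Shape.exists_noncentral (hS : Shape (S : Subgroup G)) :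
    ∃ s : (S : Subgroup G), s ∉ Subgroup.center (S : Subgroup G) := by
  by_contra hno
  simp only [not_exists, not_not] at hno
  have h := hS.center_card
  rw [show Subgroup.center (S : Subgroup G) = ⊤ from eq_top_iff.2 fun x _ => hno x, card_top, hS.card] at h
  omega

omit [Finite G] in
/-- The centraliser in `S` of a noncentral element is abelian. -/
theorem Shape.centralizer_comm (hS : Shape (S : Subgroup G)) {s : (S : Subgroup G)}
    (hs : s ∉ Subgroup.center (S : Subgroup G)) (a b : ↥(centralizer ({s} : Set (S : Subgroup G)))) :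
    a * b = b * a := by
  set A := centralizer ({s} : Set (S : Subgroup G)) with hA
  haveI : Finite A := Nat.finite_of_card_ne_zero (by rw [hS.cent_card s hs]; norm_num)
  haveI := Fact.mk Nat.prime_two
  have hAc : Nat.card A = 16 := hS.cent_card s hs
  have hZA : Subgroup.center (S : Subgroup G) ≤ A := center_le_centralizer _
  let W := (Subgroup.center (S : Subgroup G)).subgroupOf A
  have hW : Nat.card W = 4 :=
    (Nat.card_congr (Subgroup.subgroupOfEquivOfLe hZA).toEquiv).trans hS.center_card
  have hWle : W ≤ Subgroup.center A := fun w hw => Subgroup.mem_center_iff.2 fun x =>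
    Subtype.ext (Subgroup.mem_center_iff.1 (show (w : (S : Subgroup G)) ∈ Subgroup.center _ from hw) x)
  let sA : A := ⟨s, mem_centralizer_singleton_iff.2 rfl⟩
  have hsA : sA ∈ Subgroup.center A := Subgroup.mem_center_iff.2 fun x =>
    Subtype.ext (mem_centralizer_singleton_iff.1 x.2)
  have hlt : 4 < Nat.card (Subgroup.center A) := by
    rw [← hW]
    exact lt_of_not_ge fun h => hs (show sA ∈ W from (Subgroup.eq_of_le_of_card_ge hWle h).ge hsA)
  have hmul := card_eq_card_quotient_mul_card_subgroup (Subgroup.center A)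
  have hdvd := card_subgroup_dvd_card (Subgroup.center A)
  rw [hAc] at hdvd hmul
  have hle := Nat.le_of_dvd (by norm_num) hdvd
  have h8 : Nat.card (Subgroup.center A) = 8 ∨ Nat.card (Subgroup.center A) = 16 := by
    interval_cases h : Nat.card (Subgroup.center A) <;> omega
  haveI : IsCyclic (A ⧸ Subgroup.center A) := by
    rcases h8 with h | h <;> rw [h] at hmul
    · exact isCyclic_of_prime_card (p := 2) (by omega)
    · haveI := (Nat.card_eq_one_iff_unique.1
        (show Nat.card (A ⧸ Subgroup.center A) = 1 by omega)).1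
      infer_instance
  exact commutative_of_cyclic_center_quotient (QuotientGroup.mk' (Subgroup.center A))
    (QuotientGroup.ker_mk' _).le _ _

theorem degree_sub (hS : Shape (S : Subgroup G)) (χ : IrrCharacter G) {c : ℂ}
    (hc : ∀ z : (S : Subgroup G), z ∈ Subgroup.center (S : Subgroup G) → z ≠ 1 → (χ : G → ℂ) (z : G) = c) :
    ∃ n : ℤ, (χ : G → ℂ) 1 - c = 16 * (n : ℂ) := by
  classical
  obtain ⟨s, hs⟩ := hS.exists_noncentral
  set A := centralizer ({s} : Set (S : Subgroup G)) with hA
  haveI := Fintype.ofFinite A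
  letI : CommGroup A :=
    { (inferInstance : Group A) with mul_comm := hS.centralizer_comm hs }
  let zA : A := ⟨s * s, mem_centralizer_singleton_iff.2 (mul_assoc s s s)⟩
  have hz1 : zA ≠ 1 := fun e => hs ((hS.inv_iff s).1 (congrArg Subtype.val e))
  have hzc : (zA : (S : Subgroup G)) ∈ Subgroup.center (S : Subgroup G) := hS.sq_center s
  have hz2 : zA * zA = 1 := Subtype.ext ((hS.inv_iff _).2 hzc)
  obtain ⟨η, hη⟩ := exists_hom_ne_one hz1
  have hηz : ((η zA : ℂˣ) : ℂ) = -1 :=
    (hom_sign hz2 η).resolve_left fun e => hη (Units.ext e)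
  have hη1 : η ≠ 1 := fun e => hη (by rw [e, MonoidHom.one_apply])
  let f : A → ℂ := fun a => ((χ : G → ℂ) ((a : (S : Subgroup G)) : G) - c) * conj ((η a : ℂˣ) : ℂ) -
    if a = 1 then (χ : G → ℂ) 1 - c else 0
  have hf0 : ∀ a : A, (a : (S : Subgroup G)) ∈ Subgroup.center (S : Subgroup G) → f a = 0 := by
    intro a ha
    by_cases e : a = 1
    · simp [f, e]
    · simp only [f, if_neg e, hc _ ha (fun h' => e (Subtype.ext h')), sub_self, zero_mul]
  have hfneg : ∀ a : A, f (a * zA) = - f a := by
    intro a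
    by_cases ha : (a : (S : Subgroup G)) ∈ Subgroup.center (S : Subgroup G)
    · rw [hf0 a ha, hf0 (a * zA) (mul_mem ha hzc), neg_zero]
    · have e1 : a ≠ 1 := fun e => ha (by rw [e]; exact one_mem _)
      have e2 : a * zA ≠ 1 := fun e => ha (by
        rw [mul_eq_one_iff_eq_inv.1 e]; exact inv_mem hzc)
      obtain ⟨w, hw⟩ := hS.exists_conj ha hzc
      have hχ : (χ : G → ℂ) (((a * zA : A) : (S : Subgroup G)) : G) =
          (χ : G → ℂ) ((a : (S : Subgroup G)) : G) := by
        refine ClassCount.class_apply (Char.IsIrrCharacter.isClassFunction χ.2)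
          (isConj_iff.2 ⟨((w : (S : Subgroup G)) : G), ?_⟩)
        have hw' : w * (a : (S : Subgroup G)) * w⁻¹ = ((a * zA : A) : (S : Subgroup G)) := by
          rw [hw, Subgroup.coe_mul]
          exact (Subgroup.mem_center_iff.1 hzc _).symm
        simpa using congrArg Subtype.val hw'
      simp only [f, if_neg e1, if_neg e2, sub_zero, hχ, map_mul, Units.val_mul, hηz, map_neg, map_one]
      ring
  have hsum : ∑ a, f a = 0 := by
    have h := Fintype.sum_bijective (· * zA) (Group.mulRight_bijective zA) (fun a => f (a * zA)) f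
      (fun _ => rfl)
    simp only [hfneg, Finset.sum_neg_distrib] at h
    linear_combination (-1 / 2 : ℂ) * h
  have hconj : ∑ a : A, conj ((η a : ℂˣ) : ℂ) = 0 := by
    rw [← map_sum, sum_hom_eq_zero hη1, map_zero]
  simp only [f, Finset.sum_sub_distrib, sub_mul, ← Finset.mul_sum, hconj, mul_zero, sub_zero,
    Finset.sum_ite_eq', Finset.mem_univ, if_true] at hsum
  have hres := Char.IsCharacter.restrict
    (Char.IsCharacter.restrict (Char.IsIrrCharacter.isCharacter χ.2) (S : Subgroup G)) A
  obtain ⟨m, hm⟩ := Char.IsCharacter.classInner_nat hres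
    (Char.isCharacter_of_hom ((Units.coeHom ℂ).comp η))
  simp only [classInner, show Nat.card A = 16 from hS.cent_card s hs, MonoidHom.coe_comp, Function.comp_apply, Units.coeHom_apply] at hm
  refine ⟨m, ?_⟩
  push_cast
  rw [sub_eq_zero] at hsum
  rw [← hm, ← hsum]
  push_cast
  ring

theorem degree_add (hS : Shape (S : Subgroup G)) [Fintype (S : Subgroup G)] [Fintype (SQ S →* ℂˣ)]
    [DecidableEq (SQ S →* ℂˣ)] (χ : IrrCharacter G) {c : ℂ}
    (hc : ∀ z : (S : Subgroup G), z ∈ Subgroup.center (S : Subgroup G) → z ≠ 1 → (χ : G → ℂ) (z : G) = c) :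
    ∃ x : ℤ, (χ : G → ℂ) 1 + 3 * c =
      4 * ∑ l ∈ (Finset.univ : Finset (SQ S →* ℂˣ)).erase 1, kC l (χ : G → ℂ) + 64 * (x : ℂ) := by
  classical
  letI := quotCommGroup hS
  haveI := Finite.of_surjective (qmk S) (QuotientGroup.mk'_surjective _)
  obtain ⟨b, hb⟩ := Char.IsCharacter.classInner_nat
    (Char.IsCharacter.restrict (Char.IsIrrCharacter.isCharacter χ.2) (S : Subgroup G)) Char.isCharacter_one
  simp only [classInner, hS.card, Pi.one_apply, map_one, mul_one] at hb
  refine ⟨b, ?_⟩
  have hinner : ∀ s : (S : Subgroup G), ∑ l ∈ Finset.univ.erase (1 : SQ S →* ℂˣ),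
      ((((l (qmk S s)) : ℂˣ) : ℂ) - 1) = if s ∈ Subgroup.center (S : Subgroup G) then 0 else -16 := by
    intro s
    rw [Finset.sum_erase _ (by simp)]
    split_ifs with h
    · exact Finset.sum_eq_zero fun l _ => by rw [qmk_eq_one_iff.2 h, map_one, Units.val_one, sub_self]
    · rw [Finset.sum_sub_distrib, sum_dual_eq_zero (fun e => h (qmk_eq_one_iff.1 e)), Finset.sum_const,
        Finset.card_univ, ← Nat.card_eq_fintype_card, card_dual, card_quot hS, nsmul_one]
      norm_num
  have hk : 4 * ∑ l ∈ Finset.univ.erase (1 : SQ S →* ℂˣ), kC l (χ : G → ℂ) =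
      - ∑ s : (S : Subgroup G), if s ∈ Subgroup.center (S : Subgroup G) then 0 else (χ : G → ℂ) (s : G) := by
    simp only [kC, ← Finset.mul_sum]
    rw [Finset.sum_comm]
    simp only [← Finset.mul_sum, hinner]
    rw [Finset.mul_sum, Finset.mul_sum, ← Finset.sum_neg_distrib]
    refine Finset.sum_congr rfl fun s _ => ?_
    split_ifs <;> ring
  have hcen : ∑ s : (S : Subgroup G),
      (if s ∈ Subgroup.center (S : Subgroup G) then (χ : G → ℂ) (s : G) else 0) =
        (χ : G → ℂ) 1 + 3 * c := by
    have h1 : ∀ s : (S : Subgroup G),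
        (if s ∈ Subgroup.center (S : Subgroup G) then (χ : G → ℂ) (s : G) else 0) =
          (if s ∈ Subgroup.center (S : Subgroup G) then c else 0) +
            if s = 1 then (χ : G → ℂ) 1 - c else 0 := by
      intro s
      by_cases e : s = 1
      · subst e; simp
      · by_cases h : s ∈ Subgroup.center (S : Subgroup G)
        · simp [e, h, hc s h e]
        · simp [e, h]
    rw [Finset.sum_congr rfl fun s _ => h1 s, Finset.sum_add_distrib, Finset.sum_ite_eq', if_pos (Finset.mem_univ _),
      ← Finset.sum_filter, Finset.sum_const, ← Fintype.card_subtype, ← Nat.card_eq_fintype_card,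
      hS.center_card, nsmul_eq_mul]
    push_cast
    ring
  rw [hk, ← hcen, Int.cast_natCast, ← hb, ← mul_assoc, show (64 : ℂ) * ((64 : ℕ) : ℂ)⁻¹ = 1 by norm_num,
    one_mul, neg_add_eq_sub, eq_sub_iff_add_eq, ← Finset.sum_add_distrib]
  refine Finset.sum_congr rfl fun s _ => ?_
  split_ifs <;> ring

end Cfsg.Agent.TwoNilCent
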