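import Cfsg.Agent.EqLemmas
import Mathlib

/-!
# The dual of a finite group of exponent two

Orthogonality and signs for homomorphisms `Q →* ℂˣ`.
-/

set_option autoImplicit false
set_option linter.style.haveILetI false

namespace Cfsg.Agent.TwoNilCent

variable {Q : Type*} [CommGroup Q] [Finite Q]

omit [Finite Q] in
theorem hom_sign {q : Q} (hq : q * q = 1) (l : Q →* ℂˣ) :
    ((l q : ℂˣ) : ℂ) = 1 ∨ ((l q : ℂˣ) : ℂ) = -1 := by
  have h := congrArg (fun x => ((l x : ℂˣ) : ℂ)) hq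
  simp only [map_mul, map_one, Units.val_mul, Units.val_one] at h
  exact mul_self_eq_one_iff.1 h

omit [Finite Q] in
theorem hom_mul_self (hQ : ∀ q : Q, q * q = 1) (l : Q →* ℂˣ) : l * l = 1 := by
  refine MonoidHom.ext fun q => ?_
  rw [MonoidHom.mul_apply, ← map_mul, hQ, map_one, MonoidHom.one_apply]

theorem sum_hom_eq_zero [Fintype Q] {l : Q →* ℂˣ} (hl : l ≠ 1) : ∑ q : Q, ((l q : ℂˣ) : ℂ) = 0 :=
  sum_hom_units_eq_zero ((Units.coeHom ℂ).comp l) fun h => hl <| MonoidHom.ext fun q =>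
    Units.ext (by simpa using DFunLike.congr_fun h q)

theorem card_dual : Nat.card (Q →* ℂˣ) = Nat.card Q := by
  haveI : NeZero ((Monoid.exponent Q : ℕ) : ℂ) :=
    ⟨Nat.cast_ne_zero.2 Monoid.exponent_ne_zero_of_finite⟩
  exact CommGroup.card_monoidHom_of_hasEnoughRootsOfUnity Q ℂ

theorem exists_hom_ne_one {q : Q} (hq : q ≠ 1) : ∃ l : Q →* ℂˣ, l q ≠ 1 := by
  haveI : NeZero ((Monoid.exponent Q : ℕ) : ℂ) :=
    ⟨Nat.cast_ne_zero.2 Monoid.exponent_ne_zero_of_finite⟩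
  exact CommGroup.exists_apply_ne_one_of_hasEnoughRootsOfUnity Q ℂ hq

theorem sum_dual_eq_zero [Fintype (Q →* ℂˣ)] {q : Q} (hq : q ≠ 1) :
    ∑ l : Q →* ℂˣ, ((l q : ℂˣ) : ℂ) = 0 := by
  obtain ⟨l₀, hl₀⟩ := exists_hom_ne_one hq
  have h : ((l₀ q : ℂˣ) : ℂ) * ∑ l : Q →* ℂˣ, ((l q : ℂˣ) : ℂ) = ∑ l : Q →* ℂˣ, ((l q : ℂˣ) : ℂ) := by
    rw [Finset.mul_sum]
    exact Fintype.sum_bijective (l₀ * ·) (Group.mulLeft_bijective l₀) _ _ fun l => by
      rw [MonoidHom.mul_apply, Units.val_mul]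
  exact eq_zero_of_mul_eq_self_left (fun e => hl₀ (Units.ext e)) h

/-- `∑ (l q - 1) (m q - 1)`. -/
theorem sum_sub_one_mul [Fintype Q] (hQ : ∀ q : Q, q * q = 1) {l m : Q →* ℂˣ} (hl : l ≠ 1) (hm : m ≠ 1)
    [Decidable (l = m)] :
    ∑ q : Q, (((l q : ℂˣ) : ℂ) - 1) * (((m q : ℂˣ) : ℂ) - 1) =
      (Nat.card Q : ℂ) * ((if l = m then 1 else 0) + 1) := by
  have h1 : ∀ q : Q, (((l q : ℂˣ) : ℂ) - 1) * (((m q : ℂˣ) : ℂ) - 1) =
      (((l * m) q : ℂˣ) : ℂ) - ((l q : ℂˣ) : ℂ) - ((m q : ℂˣ) : ℂ) + 1 := fun q => by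
    rw [MonoidHom.mul_apply, Units.val_mul]; ring
  rw [Finset.sum_congr rfl fun q _ => h1 q, Finset.sum_add_distrib, Finset.sum_sub_distrib,
    Finset.sum_sub_distrib, sum_hom_eq_zero hl, sum_hom_eq_zero hm, sub_zero, sub_zero,
    Finset.sum_const, Finset.card_univ, ← Nat.card_eq_fintype_card, nsmul_one]
  split_ifs with h
  · rw [h, hom_mul_self hQ]
    simp [Nat.card_eq_fintype_card, mul_add]
  · rw [sum_hom_eq_zero (fun e => h (MonoidHom.ext fun q => mul_right_cancel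
      ((DFunLike.congr_fun e q).trans (DFunLike.congr_fun (hom_mul_self hQ m) q).symm))), zero_add,
      zero_add, mul_one]

end Cfsg.Agent.TwoNilCent
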