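import Cfsg.Agent.Lib.TwoNilCent.UFourFinal
import Cfsg.Agent.Lib.TwoNilCent.RankTwo
import Cfsg.Agent.Lib.GWReduce.Main
import Cfsg.Agent.Lib.OneEvenOrder.OneComposite
import Cfsg.Agent.S0516

/-!
# Simple groups whose involution centralisers have normal 2-complements

`result_of_dihedralGW` : modulo the Gorenstein–Walter theorem for simple groups such a group is
`PSL₂(q)`, a Suzuki group, `A₇` or `PSL₃(4)`.
-/

set_option autoImplicit false
set_option linter.style.haveILetI false

namespace Cfsg.Agent.TwoNilCent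

universe u

theorem result_of_dihedralGW (hGW : GWReduce.DihedralGW.{u}) {G : Type u} [Group G] [Finite G]
    [IsSimpleGroup G] (hG : ¬ IsMulCommutative G) (h : TwoNil G) :
    (∃ (F : Type) (_ : Field F) (_ : Fintype F), 3 < Fintype.card F ∧
        Nonempty (G ≃* Matrix.ProjectiveSpecialLinearGroup (Fin 2) F)) ∨
      Cfsg.Lie.IsoSuzuki G ∨ Nonempty (G ≃* ↥(alternatingGroup (Fin 7))) ∨
      (∃ (F : Type) (_ : Field F) (_ : Fintype F), Fintype.card F = 4 ∧
        Nonempty (G ≃* Matrix.ProjectiveSpecialLinearGroup (Fin 3) F)) := by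
  haveI := Fact.mk Nat.prime_two
  have hnc : ∃ a b : G, a * b ≠ b * a := by
    by_contra hno
    exact hG ⟨⟨fun a b => by by_contra e; exact hno ⟨a, b, e⟩⟩⟩
  by_cases h2 : Cfsg.PRankLE 2 2 G
  · haveI : Fintype (GaloisField 2 4) := Fintype.ofFinite _
    have hK : Fintype.card (GaloisField 2 4) = 16 := by
      rw [← Nat.card_eq_fintype_card, GaloisField.card 2 4 (by norm_num)]
      norm_num
    obtain ⟨P⟩ : Nonempty (Sylow 2 (Cfsg.PSU 3 (GaloisField 2 4) 4)) := inferInstance
    obtain ⟨S⟩ : Nonempty (Sylow 2 G) := inferInstance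
    rcases S0516.result hG h2 S hK P with ⟨n, hn, he⟩ | hq | hw | hP
    · rcases hGW G inferInstance hG S n hn he with ⟨F, _, _, -, ⟨f⟩⟩ | h7
      · exact Or.inl ⟨F, _, _, OneEvenOrder.four_le_card hnc f, ⟨f⟩⟩
      · exact Or.inr (Or.inr (Or.inl h7))
    · exact (not_quasiDihedral hG h S hq).elim
    · exact (not_wreathed hG h S hw).elim
    · obtain ⟨e⟩ := hP
      exact (false_of_shape hG h S ((shape_psu hK P).congr e.symm)).elim
  · rcases CITClass.classify hnc (fun t ht => h.isPGroup_centralizer_of_rank hG h2 ht) with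
      ⟨F, _, _, -, ⟨f⟩⟩ | h4 | hs
    · exact Or.inl ⟨F, _, _, OneEvenOrder.four_le_card hnc f, ⟨f⟩⟩
    · exact Or.inr (Or.inr (Or.inr h4))
    · exact Or.inr (Or.inl hs)

end Cfsg.Agent.TwoNilCent
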