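import Cfsg.Agent.Lib.TwoNilCent.UFourLocal
import Cfsg.Agent.Lib.TwoNilCent.Dual
import Cfsg.Agent.Lib.SecondMain.KleinFour
import Cfsg.Agent.Lib.ClassCount.CharSum

/-!
# The columns of the principal 2-block for a Sylow subgroup of the shape of that of `PSU 3 F 4`

For `l : S ⧸ Z(S) → ℂˣ` the integers `kC l χ = 64⁻¹ ∑ s, χ s * (l s - 1)` have the Gram matrix
`3 + #{j : m ∘ τ^j = l}` over the principal block, are orthogonal to the values at products of two
involutions and at the involutions, and govern `χ 1` and `χ z` modulo 16 and 64.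
-/

set_option autoImplicit false
set_option linter.style.haveILetI false

open scoped ComplexConjugate

namespace Cfsg.Agent.TwoNilCent

open Subgroup Cfsg Blocks SecondMain

variable {G : Type*} [Group G] [Finite G] {S : Sylow 2 G}

/-- The quotient of `S` by its centre. -/
abbrev SQ (S : Sylow 2 G) := (S : Subgroup G) ⧸ Subgroup.center (S : Subgroup G)

/-- The projection of `S`. -/
abbrev qmk (S : Sylow 2 G) : (S : Subgroup G) →* SQ S :=
  QuotientGroup.mk' (Subgroup.center (S : Subgroup G))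

omit [Finite G] in
theorem qmk_eq_iff {s t : (S : Subgroup G)} :
    qmk S t = qmk S s ↔ t * s⁻¹ ∈ Subgroup.center (S : Subgroup G) := by
  rw [← div_eq_mul_inv]
  exact QuotientGroup.eq_iff_div_mem

omit [Finite G] in
theorem qmk_eq_one_iff {s : (S : Subgroup G)} :
    qmk S s = 1 ↔ s ∈ Subgroup.center (S : Subgroup G) := QuotientGroup.eq_one_iff s

omit [Finite G] in
theorem quot_sq (hS : Shape (S : Subgroup G)) (q : SQ S) : q * q = 1 := by
  obtain ⟨s, rfl⟩ := QuotientGroup.mk'_surjective _ q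
  rw [← map_mul]
  exact qmk_eq_one_iff.2 (hS.sq_center s)

/-- The quotient by the centre is commutative. -/
@[reducible] def quotCommGroup (hS : Shape (S : Subgroup G)) : CommGroup (SQ S) :=
  { (inferInstance : Group (SQ S)) with
    mul_comm := fun a b => by
      have h : ∀ q : SQ S, q⁻¹ = q := fun q => inv_eq_of_mul_eq_one_right (quot_sq hS q)
      calc a * b = (a * b)⁻¹ := (h _).symm
        _ = b * a := by rw [mul_inv_rev, h, h] }

omit [Finite G] in
theorem card_quot (hS : Shape (S : Subgroup G)) : Nat.card (SQ S) = 16 := by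
  have h := card_eq_card_quotient_mul_card_subgroup (Subgroup.center (S : Subgroup G))
  rw [hS.card, hS.center_card] at h
  show Nat.card ((S : Subgroup G) ⧸ Subgroup.center (S : Subgroup G)) = 16
  omega

omit [Finite G] in
theorem sum_fiber (hS : Shape (S : Subgroup G)) [Fintype (S : Subgroup G)] [Fintype (SQ S)] (f : SQ S → ℂ) :
    ∑ s : (S : Subgroup G), f (qmk S s) = 4 * ∑ q, f q := by
  classical
  haveI := Fintype.ofFinite (Subgroup.center (S : Subgroup G))
  rw [Fintype.sum_equiv (Subgroup.groupEquivQuotientProdSubgroup (s := Subgroup.center (S : Subgroup G)))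
    (fun s => f (qmk S s)) (fun p => f p.1) (fun s => rfl), Fintype.sum_prod_type, Finset.mul_sum]
  refine Finset.sum_congr rfl fun q _ => ?_
  show ∑ _y : Subgroup.center (S : Subgroup G), f q = _
  rw [Finset.sum_const, Finset.card_univ, ← Nat.card_eq_fintype_card, hS.center_card, nsmul_eq_mul]
  norm_num

variable {σ : (S : Subgroup G) ≃* (S : Subgroup G)}

/-- The map induced by `σ` on `S ⧸ Z(S)`. -/
def tau (hS : Shape (S : Subgroup G)) (σ : (S : Subgroup G) ≃* (S : Subgroup G)) : SQ S →* SQ S :=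
  QuotientGroup.map _ _ σ.toMonoidHom fun c hc => by
    show σ c ∈ Subgroup.center (S : Subgroup G)
    refine (hS.inv_iff _).1 ?_
    rw [← map_mul, (hS.inv_iff c).2 hc, map_one]

omit [Finite G] in
theorem tau_qmk (hS : Shape (S : Subgroup G)) (s : (S : Subgroup G)) : tau hS σ (qmk S s) = qmk S (σ s) :=
  rfl

omit [Finite G] in
theorem tau_cube (hS : Shape (S : Subgroup G)) (hσ : Twist S σ) (q : SQ S) :
    tau hS σ (tau hS σ (tau hS σ q)) = q := by
  obtain ⟨s, rfl⟩ := QuotientGroup.mk'_surjective _ q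
  rw [tau_qmk, tau_qmk, tau_qmk, hσ.cube]

omit [Finite G] in
theorem tau_fpf (hS : Shape (S : Subgroup G)) (hσ : Twist S σ) {q : SQ S} (h : tau hS σ q = q) : q = 1 := by
  obtain ⟨s, rfl⟩ := QuotientGroup.mk'_surjective _ q
  refine qmk_eq_one_iff.2 ?_
  by_contra hs
  refine hσ.fpf s hs ?_
  rw [← qmk_eq_one_iff, map_mul, map_inv]
  exact inv_mul_eq_one.2 h.symm

/-- The map induced by `σ` on the characters of `S ⧸ Z(S)`. -/
def dualTau (hS : Shape (S : Subgroup G)) (σ : (S : Subgroup G) ≃* (S : Subgroup G))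
    (l : SQ S →* ℂˣ) : SQ S →* ℂˣ := l.comp (tau hS σ)

theorem dualTau_cube (hS : Shape (S : Subgroup G)) (hσ : Twist S σ) (l : SQ S →* ℂˣ) :
    dualTau hS σ (dualTau hS σ (dualTau hS σ l)) = l :=
  MonoidHom.ext fun q => congrArg l (tau_cube hS hσ q)

theorem dualTau_eq_one (hS : Shape (S : Subgroup G)) (hσ : Twist S σ) {l : SQ S →* ℂˣ}
    (h : dualTau hS σ l = 1) : l = 1 :=
  MonoidHom.ext fun q => by
    have h1 := DFunLike.congr_fun h (tau hS σ (tau hS σ q))
    rwa [dualTau, MonoidHom.comp_apply, tau_cube hS hσ] at h1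

theorem dualTau_fpf (hS : Shape (S : Subgroup G)) (hσ : Twist S σ) {l : SQ S →* ℂˣ}
    (h : dualTau hS σ l = l) : l = 1 := by
  letI := quotCommGroup hS
  let f : SQ S →* SQ S := (tau hS σ) * (MonoidHom.id (SQ S))⁻¹
  have hf : Function.Injective f := by
    refine (injective_iff_map_eq_one f).2 fun q hq => tau_fpf hS hσ ?_
    exact mul_inv_eq_one.1 hq
  haveI := Finite.of_surjective (qmk S) (QuotientGroup.mk'_surjective _)
  have hsur : Function.Surjective f := Finite.surjective_of_injective hf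
  refine MonoidHom.ext fun q => ?_
  obtain ⟨p, rfl⟩ := hsur q
  show l (tau hS σ p * p⁻¹) = 1
  rw [map_mul, map_inv, mul_inv_eq_one]
  exact DFunLike.congr_fun h p

/-- The integer attached to a character and a character of `S ⧸ Z(S)`. -/
noncomputable def kC [Fintype (S : Subgroup G)] (l : SQ S →* ℂˣ) (χ : G → ℂ) : ℂ :=
  (64 : ℂ)⁻¹ * ∑ s : (S : Subgroup G), χ (s : G) * (((l (qmk S s) : ℂˣ) : ℂ) - 1)

omit [Finite G] in
theorem conj_hom (hS : Shape (S : Subgroup G)) (l : SQ S →* ℂˣ) (q : SQ S) :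
    conj ((l q : ℂˣ) : ℂ) = ((l q : ℂˣ) : ℂ) := by
  letI := quotCommGroup hS
  rcases hom_sign (quot_sq hS q) l with h | h <;> rw [h] <;> simp

omit [Finite G] in
theorem exists_int_kC (hS : Shape (S : Subgroup G)) [Fintype (S : Subgroup G)] (l : SQ S →* ℂˣ)
    (χ : IrrCharacter G) : ∃ m : ℤ, kC l (χ : G → ℂ) = (m : ℂ) := by
  have hres := Char.IsCharacter.restrict (Char.IsIrrCharacter.isCharacter χ.2) (S : Subgroup G)
  obtain ⟨a, ha⟩ := Char.IsCharacter.classInner_nat hres
    (Char.isCharacter_of_hom ((Units.coeHom ℂ).comp (l.comp (qmk S))))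
  obtain ⟨b, hb⟩ := Char.IsCharacter.classInner_nat hres Char.isCharacter_one
  refine ⟨(a : ℤ) - b, ?_⟩
  push_cast
  rw [← ha, ← hb]
  simp only [kC, classInner, hS.card, MonoidHom.coe_comp, Function.comp_apply, Units.coeHom_apply,
    conj_hom hS, Pi.one_apply, map_one, mul_one, mul_sub, Finset.sum_sub_distrib]
  norm_num

theorem kC_dualTau (hS : Shape (S : Subgroup G)) (hσ : Twist S σ) [Fintype (S : Subgroup G)]
    (l : SQ S →* ℂˣ) {χ : G → ℂ} (hχ : IsClassFunction G χ) :
    kC (dualTau hS σ l) χ = kC l χ := by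
  unfold kC
  congr 1
  refine Fintype.sum_equiv σ.toEquiv _ _ fun s => ?_
  show χ (s : G) * (((l (tau hS σ (qmk S s)) : ℂˣ) : ℂ) - 1) = χ (σ s : G) * _
  rw [tau_qmk, ClassCount.class_apply hχ (hσ.conj s)]
  rfl

/-- The principal 2-block as a finite set. -/
noncomputable def bSet (M : Ideal AlgInt) (G : Type*) [Group G] [Finite G] : Finset (IrrCharacter G) :=
  (Set.toFinite (principalBlock M G)).toFinset

variable {M : Ideal AlgInt}

theorem mem_bSet {χ : IrrCharacter G} : χ ∈ bSet M G ↔ χ ∈ principalBlock M G := Set.Finite.mem_toFinset _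

theorem colSum_bSet (g h : G) :
    colSum (principalBlock M G) g h = ∑ χ ∈ bSet M G, (χ : G → ℂ) g * conj ((χ : G → ℂ) h) :=
  finsum_mem_eq_finite_toFinset_sum _ (Set.toFinite _)

variable (hM : IsPModular 2 M)
include hM

theorem colSum_nonconj {x x' : G} (hx : ∃ k, orderOf x = 2 ^ k) (hx' : ∃ k, orderOf x' = 2 ^ k)
    (hne : ¬ IsConj x x') : colSum (principalBlock M G) x x' = 0 := by
  have h1 : ¬ 2 ∣ orderOf (1 : G) := by rw [orderOf_one]; norm_num
  have := colSum_eq_zero hM BrauerPairs.isPBlock_principal hx hx' h1 h1 (Commute.one_right x)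
    (Commute.one_right x') hne
  rwa [mul_one, mul_one] at this

theorem colSum_self_of_card {x : G} (hx : ∃ k, orderOf x = 2 ^ k) {n : ℕ}
    (hc : HasNormalPComplement 2 ↥(centralizer ({x} : Set G)))
    (hn : ∀ [Fintype ↥(centralizer ({x} : Set G))] [DecidablePred fun s : ↥(centralizer ({x} : Set G)) =>
      ¬ 2 ∣ orderOf s], Nat.card ↥(centralizer ({x} : Set G)) =
        (Finset.univ.filter fun s : ↥(centralizer ({x} : Set G)) => ¬ 2 ∣ orderOf s).card * n) :
    colSum (principalBlock M G) x x = (n : ℂ) := by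
  classical
  haveI := Fact.mk Nat.prime_two
  haveI := Fintype.ofFinite ↥(centralizer ({x} : Set G))
  have h := sum_sq_principal_of_complement hM hx (H := centralizer ({x} : Set G))
    (fun _ => commute_iff_mem_centralizer_singleton) hc
  have hn' := hn
  rw [hn'] at h
  push_cast at h
  refine mul_left_cancel₀ ?_ h
  intro e
  have : Nat.card ↥(centralizer ({x} : Set G)) ≠ 0 := Nat.card_pos.ne'
  rw [hn', Nat.cast_eq_zero.1 e, zero_mul] at this
  exact this rfl

theorem colSum_noncentral (h : TwoNil G) (hS : Shape (S : Subgroup G)) {s : (S : Subgroup G)}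
    (hs : s ∉ Subgroup.center (S : Subgroup G)) :
    colSum (principalBlock M G) (s : G) (s : G) = 16 := by
  haveI := Fintype.ofFinite ↥(centralizer ({(s : G)} : Set G))
  have hx : ∃ k, orderOf (s : G) = 2 ^ k := ⟨2, by rw [hS.orderOf_noncentral hs]; norm_num⟩
  have := colSum_self_of_card hM hx (n := 16) (centralizer_noncentral h hS hs).1
    (fun {_} {_} => by convert (centralizer_noncentral h hS hs).2 using 3; ext; simp)
  exact_mod_cast this

theorem colSum_centre (h : TwoNil G) (hS : Shape (S : Subgroup G)) {c : (S : Subgroup G)}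
    (hc : c ∈ Subgroup.center (S : Subgroup G)) (hc1 : c ≠ 1) :
    colSum (principalBlock M G) (c : G) (c : G) = 64 := by
  have hx : ∃ k, orderOf (c : G) = 2 ^ k := ⟨1, by rw [hS.orderOf_center hc hc1, pow_one]⟩
  have := colSum_self_of_card hM hx (n := 64) (h _ (hS.orderOf_center hc hc1))
    (fun {_} {_} => by convert card_centralizer_eq_center h hS hc hc1 using 3; ext; simp)
  exact_mod_cast this

/-- Columns at elements of order four are orthogonal to those at products of two involutions. -/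
theorem colSum_mul_involutions (h : TwoNil G) (hS : Shape (S : Subgroup G)) {s : (S : Subgroup G)}
    (hs : s ∉ Subgroup.center (S : Subgroup G)) {u v : G} (hu : u * u = 1) (hv : v * v = 1) :
    colSum (principalBlock M G) (s : G) (u * v) = 0 := by
  haveI := Fact.mk Nat.prime_two
  obtain ⟨a, b, hab, ha, hb, hak, hbo⟩ := Transfer.exists_pPart_mul (p := 2) (u * v)
  have hx : ∃ k, orderOf (s : G) = 2 ^ k := ⟨2, by rw [hS.orderOf_noncentral hs]; norm_num⟩
  have hcab : Commute a b := by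
    obtain ⟨i, hi⟩ := mem_zpowers_iff.1 ha
    obtain ⟨j, hj⟩ := mem_zpowers_iff.1 hb
    have h1 := (Commute.refl (u * v)).zpow_zpow i j
    rwa [hi, hj] at h1
  have hu' : u⁻¹ = u := inv_eq_of_mul_eq_one_right hu
  have hv' : v⁻¹ = v := inv_eq_of_mul_eq_one_right hv
  have hinv : u * a * u⁻¹ = a⁻¹ := by
    obtain ⟨i, hi⟩ := mem_zpowers_iff.1 ha
    have h1 : u * (u * v) * u⁻¹ = (u * v)⁻¹ := by
      rw [mul_inv_rev, hu', hv', ← mul_assoc, hu, one_mul]
    rw [← hi, ← conj_zpow, h1, inv_zpow]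
  have hne : ¬ IsConj (s : G) a := fun e => by
    obtain ⟨c, hc⟩ := isConj_iff.1 e
    exact not_inverted h hS hu (g := a)
      (by rw [← hc, SecondMain.orderOf_conj, hS.orderOf_noncentral hs]) hinv
  have := colSum_eq_zero hM (BrauerPairs.isPBlock_principal (M := M)) (x := (s : G)) (y := 1) hx hak
    (by rw [orderOf_one]; norm_num) (Nat.prime_two.coprime_iff_not_dvd.1 hbo.symm) (Commute.one_right _)
    hcab hne
  rwa [mul_one, ← hab] at this

omit hM in
theorem sum_kC_mul_conj [Fintype (S : Subgroup G)] (l : SQ S →* ℂˣ) (g : G) :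
    ∑ χ ∈ bSet M G, kC l (χ : G → ℂ) * conj ((χ : G → ℂ) g) =
      (64 : ℂ)⁻¹ * ∑ s : (S : Subgroup G),
        (((l (qmk S s) : ℂˣ) : ℂ) - 1) * colSum (principalBlock M G) (s : G) g := by
  simp only [kC, colSum_bSet, Finset.mul_sum, Finset.sum_mul]
  rw [Finset.sum_comm]
  exact Finset.sum_congr rfl fun s _ => Finset.sum_congr rfl fun χ _ => by ring

omit hM in
/-- The orthogonality to columns that miss the elements of order four. -/
theorem sum_kC_eq_zero [Fintype (S : Subgroup G)] (l : SQ S →* ℂˣ) {g : G}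
    (hg : ∀ s : (S : Subgroup G), s ∉ Subgroup.center (S : Subgroup G) →
      colSum (principalBlock M G) (s : G) g = 0) :
    ∑ χ ∈ bSet M G, kC l (χ : G → ℂ) * conj ((χ : G → ℂ) g) = 0 := by
  rw [sum_kC_mul_conj, Finset.sum_eq_zero, mul_zero]
  intro s _
  by_cases hs : s ∈ Subgroup.center (S : Subgroup G)
  · rw [qmk_eq_one_iff.2 hs, map_one, Units.val_one, sub_self, zero_mul]
  · rw [hg s hs, mul_zero]

theorem inner_col (h : TwoNil G) (hS : Shape (S : Subgroup G)) (hσ : Twist S σ)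
    [Fintype (S : Subgroup G)] (m : SQ S →* ℂˣ) {s : (S : Subgroup G)}
    (hs : s ∉ Subgroup.center (S : Subgroup G)) :
    ∑ t : (S : Subgroup G), (((m (qmk S t) : ℂˣ) : ℂ) - 1) * colSum (principalBlock M G) (s : G) (t : G) =
      64 * ((((m (qmk S s) : ℂˣ) : ℂ) - 1) + (((dualTau hS σ m (qmk S s) : ℂˣ) : ℂ) - 1) +
        (((dualTau hS σ (dualTau hS σ m) (qmk S s) : ℂˣ) : ℂ) - 1)) := by
  classical
  haveI := Finite.of_surjective (qmk S) (QuotientGroup.mk'_surjective _)
  haveI := Fintype.ofFinite (SQ S)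
  set a : SQ S := qmk S s with ha
  let O : Finset (SQ S) := {a, tau hS σ a, tau hS σ (tau hS σ a)}
  have ha1 : a ≠ 1 := fun e => hs (qmk_eq_one_iff.1 e)
  have h1 : tau hS σ a ≠ a := fun e => ha1 (tau_fpf hS hσ e)
  have h2 : tau hS σ (tau hS σ a) ≠ a := fun e => h1 (by
    have := congrArg (tau hS σ) e
    rw [tau_cube hS hσ] at this
    exact this.symm)
  have h3 : tau hS σ (tau hS σ a) ≠ tau hS σ a := fun e => h1 (by
    have := congrArg (fun x => tau hS σ (tau hS σ x)) e
    simp only [tau_cube hS hσ] at this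
    exact this)
  let F : SQ S → ℂ := fun q => if q ∈ O then 16 * (((m q : ℂˣ) : ℂ) - 1) else 0
  have hF : ∀ t : (S : Subgroup G),
      (((m (qmk S t) : ℂˣ) : ℂ) - 1) * colSum (principalBlock M G) (s : G) (t : G) = F (qmk S t) := by
    intro t
    by_cases ht : t ∈ Subgroup.center (S : Subgroup G)
    · simp [F, qmk_eq_one_iff.2 ht]
    have hiff : IsConj (s : G) (t : G) ↔ qmk S t ∈ O := by
      simp only [O, Finset.mem_insert, Finset.mem_singleton, ha, tau_qmk, qmk_eq_iff]
      exact ⟨hσ.fusion h hS hs, hσ.isConj_coset hS hs⟩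
    by_cases hc : IsConj (s : G) (t : G)
    · have e : colSum (principalBlock M G) (s : G) (t : G) = colSum (principalBlock M G) (s : G) (s : G) :=
        finsum_mem_congr rfl fun χ _ => by
          rw [ClassCount.class_apply (Char.IsIrrCharacter.isClassFunction χ.2) hc]
      rw [e, colSum_noncentral hM h hS hs]
      simp only [F, if_pos (hiff.1 hc)]
      ring
    · rw [colSum_nonconj hM ⟨2, by rw [hS.orderOf_noncentral hs]; norm_num⟩
        ⟨2, by rw [hS.orderOf_noncentral ht]; norm_num⟩ hc, mul_zero]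
      simp only [F, if_neg (mt hiff.2 hc)]
  rw [Finset.sum_congr rfl fun t _ => hF t, sum_fiber hS F]
  simp only [F, ← Finset.sum_filter, Finset.filter_mem_eq_inter, Finset.univ_inter, O]
  rw [Finset.sum_insert (by simp [Ne.symm h1, Ne.symm h2]), Finset.sum_pair (Ne.symm h3)]
  simp only [dualTau, MonoidHom.comp_apply]
  ring

open scoped Classical in
/-- The Gram matrix. -/
theorem sum_kC_mul (h : TwoNil G) (hS : Shape (S : Subgroup G)) (hσ : Twist S σ)
    [Fintype (S : Subgroup G)] {l m : SQ S →* ℂˣ} (hl : l ≠ 1) (hm : m ≠ 1) :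
    ∑ χ ∈ bSet M G, kC l (χ : G → ℂ) * kC m (χ : G → ℂ) =
      3 + ((if l = m then 1 else 0) + (if l = dualTau hS σ m then 1 else 0) +
        (if l = dualTau hS σ (dualTau hS σ m) then 1 else 0)) := by
  haveI := Finite.of_surjective (qmk S) (QuotientGroup.mk'_surjective _)
  haveI := Fintype.ofFinite (SQ S)
  letI := quotCommGroup hS
  have hreal : ∀ χ : IrrCharacter G, kC m (χ : G → ℂ) =
      (64 : ℂ)⁻¹ * ∑ t : (S : Subgroup G),
        (((m (qmk S t) : ℂˣ) : ℂ) - 1) * conj ((χ : G → ℂ) (t : G)) := fun χ => by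
    obtain ⟨j, hj⟩ := exists_int_kC hS m χ
    calc kC m (χ : G → ℂ) = conj (kC m (χ : G → ℂ)) := by rw [hj, map_intCast]
      _ = _ := by
        simp only [kC, map_mul, map_sum, map_sub, map_one, map_inv₀, map_ofNat, conj_hom hS]
        exact congrArg _ (Finset.sum_congr rfl fun t _ => mul_comm _ _)
  have e1 : ∑ χ ∈ bSet M G, kC l (χ : G → ℂ) * kC m (χ : G → ℂ) =
      (64 : ℂ)⁻¹ * ∑ t : (S : Subgroup G), (((m (qmk S t) : ℂˣ) : ℂ) - 1) *
        ∑ χ ∈ bSet M G, kC l (χ : G → ℂ) * conj ((χ : G → ℂ) (t : G)) := by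
    simp only [hreal, Finset.mul_sum]
    rw [Finset.sum_comm]
    exact Finset.sum_congr rfl fun t _ => Finset.sum_congr rfl fun χ _ => by ring
  have e2 : ∀ s : (S : Subgroup G), (((l (qmk S s) : ℂˣ) : ℂ) - 1) *
      (∑ t : (S : Subgroup G), (((m (qmk S t) : ℂˣ) : ℂ) - 1) *
        colSum (principalBlock M G) (s : G) (t : G)) =
      (fun q => 64 * ((((l q : ℂˣ) : ℂ) - 1) * (((m q : ℂˣ) : ℂ) - 1) +
        (((l q : ℂˣ) : ℂ) - 1) * (((dualTau hS σ m q : ℂˣ) : ℂ) - 1) +
        (((l q : ℂˣ) : ℂ) - 1) * (((dualTau hS σ (dualTau hS σ m) q : ℂˣ) : ℂ) - 1))) (qmk S s) := by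
    intro s
    by_cases hs : s ∈ Subgroup.center (S : Subgroup G)
    · simp [qmk_eq_one_iff.2 hs]
    · rw [inner_col hM h hS hσ m hs]
      ring
  rw [e1]
  simp only [sum_kC_mul_conj]
  have e3 : ∑ t : (S : Subgroup G), (((m (qmk S t) : ℂˣ) : ℂ) - 1) * ((64 : ℂ)⁻¹ *
      ∑ s : (S : Subgroup G), (((l (qmk S s) : ℂˣ) : ℂ) - 1) * colSum (principalBlock M G) (s : G) (t : G)) =
      (64 : ℂ)⁻¹ * ∑ s : (S : Subgroup G), (((l (qmk S s) : ℂˣ) : ℂ) - 1) *
      (∑ t : (S : Subgroup G), (((m (qmk S t) : ℂˣ) : ℂ) - 1) *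
        colSum (principalBlock M G) (s : G) (t : G)) := by
    simp only [Finset.mul_sum]
    rw [Finset.sum_comm]
    exact Finset.sum_congr rfl fun t _ => Finset.sum_congr rfl fun s _ => by ring
  have hm1 : dualTau hS σ m ≠ 1 := fun e => hm (dualTau_eq_one hS hσ e)
  have e4 := (Finset.sum_congr (s₁ := Finset.univ) rfl fun s _ => e2 s).trans (sum_fiber hS
    (fun q => 64 * ((((l q : ℂˣ) : ℂ) - 1) * (((m q : ℂˣ) : ℂ) - 1) +
      (((l q : ℂˣ) : ℂ) - 1) * (((dualTau hS σ m q : ℂˣ) : ℂ) - 1) +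
      (((l q : ℂˣ) : ℂ) - 1) * (((dualTau hS σ (dualTau hS σ m) q : ℂˣ) : ℂ) - 1))))
  rw [e3, e4, ← Finset.mul_sum, Finset.sum_add_distrib,
    Finset.sum_add_distrib, sum_sub_one_mul (quot_sq hS) hl hm,
    sum_sub_one_mul (quot_sq hS) hl hm1,
    sum_sub_one_mul (quot_sq hS) hl (fun e => hm1 (dualTau_eq_one hS hσ e)), card_quot hS]
  push_cast
  ring

end Cfsg.Agent.TwoNilCent
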